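import Mathlib

/-!
Disjoint cycles of prime length in an alternating group, and permutations normalising them.
-/

set_option autoImplicit false

namespace CfsgLib.AltSection

open Equiv Equiv.Perm

variable {k b r : ℕ} [Fact b.Prime]

/-- The embedding of blocks as a homomorphism. -/
noncomputable def via (e : Fin k × ZMod b ↪ Fin r) : Perm (Fin k × ZMod b) →* Perm (Fin r) :=
  viaEmbeddingHom e

theorem via_apply (e : Fin k × ZMod b ↪ Fin r) (g : Perm (Fin k × ZMod b)) (x : Fin k × ZMod b) :
    via e g (e x) = e (g x) :=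
  viaEmbedding_apply g e x

theorem via_apply_of_ne (e : Fin k × ZMod b ↪ Fin r) (g : Perm (Fin k × ZMod b)) {y : Fin r}
    (hy : ∀ x, e x ≠ y) : via e g y = y :=
  viaEmbedding_apply_of_notMem g e y fun ⟨x, hx⟩ => hy x hx

theorem sign_via (e : Fin k × ZMod b ↪ Fin r) (g : Perm (Fin k × ZMod b)) :
    sign (via e g) = sign g := by
  classical
  show sign (viaEmbedding g e) = sign g
  rw [viaEmbedding]
  convert sign_extendDomain g _

/-- Shift of the `i`-th block by `m`. -/
def shift (i : Fin k) (m : ZMod b) : Perm (Fin k × ZMod b) :=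
  prodCongrRight fun l => Equiv.addLeft (if l = i then m else 0)

theorem shift_apply (i : Fin k) (m : ZMod b) (x : Fin k × ZMod b) :
    shift i m x = (x.1, (if x.1 = i then m else 0) + x.2) := rfl

theorem shift_mul (i : Fin k) (m m' : ZMod b) : shift i m * shift i m' = shift i (m + m') := by
  ext1 x
  simp only [Perm.mul_apply, shift_apply]
  by_cases h : x.1 = i <;> simp [h, add_assoc]

theorem shift_comm (i j : Fin k) (m m' : ZMod b) :
    shift i m * shift j m' = shift j m' * shift i m := by
  ext1 x
  simp only [Perm.mul_apply, shift_apply]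
  rw [← add_assoc, ← add_assoc, add_comm (if x.1 = i then m else 0)]

theorem shift_zero (i : Fin k) : shift i (0 : ZMod b) = 1 := by
  ext1 x
  simp [shift_apply]

theorem shift_pow (i : Fin k) (m : ZMod b) : ∀ l : ℕ, shift i m ^ l = shift i ((l : ZMod b) * m)
  | 0 => by simp [shift_zero]
  | l + 1 => by rw [pow_succ, shift_pow i m l, shift_mul]; push_cast; ring_nf

theorem shift_pow_card (i : Fin k) (m : ZMod b) : shift i m ^ b = 1 := by
  rw [shift_pow, ZMod.natCast_self, zero_mul, shift_zero]

theorem sign_eq_one_of_odd_pow {α : Type*} [Fintype α] [DecidableEq α] {g : Perm α} {m : ℕ}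
    (hm : Odd m) (h : g ^ m = 1) : sign g = 1 := by
  have h1 := congrArg sign h
  rw [map_pow, map_one] at h1
  rcases Int.units_eq_one_or (sign g) with h2 | h2
  · exact h2
  · rw [h2, hm.neg_one_pow] at h1
    exact absurd h1 (by decide)

/-- The monomial permutation of the blocks. -/
def monomial (π : Perm (Fin k)) (a : Fin k → (ZMod b)ˣ) : Perm (Fin k × ZMod b) :=
  prodCongrLeft (fun _ => π) * prodCongrRight fun i => (a i).mulLeft

theorem monomial_apply (π : Perm (Fin k)) (a : Fin k → (ZMod b)ˣ) (x : Fin k × ZMod b) :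
    monomial π a x = (π x.1, (a x.1 : ZMod b) * x.2) := rfl

theorem monomial_mul_shift (π : Perm (Fin k)) (a : Fin k → (ZMod b)ˣ) (i : Fin k) :
    monomial π a * shift i 1 = shift (π i) (a i : ZMod b) * monomial π a := by
  ext1 x
  simp only [Perm.mul_apply, shift_apply, monomial_apply]
  by_cases h : x.1 = i
  · subst h; simp [mul_add]
  · simp [h, π.injective.ne h]

/-- The sign of multiplication by a unit. -/
def χ : (ZMod b)ˣ →* ℤˣ where
  toFun u := sign (u.mulLeft : Perm (ZMod b))
  map_one' := by
    have : ((1 : (ZMod b)ˣ).mulLeft : Perm (ZMod b)) = 1 := by ext x; simp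
    rw [this, map_one]
  map_mul' u v := by
    have : ((u * v).mulLeft : Perm (ZMod b)) = u.mulLeft * v.mulLeft := by
      ext x; simp [mul_assoc]
    rw [this, map_mul]

theorem sign_monomial (hb : Odd b) (π : Perm (Fin k)) (a : Fin k → (ZMod b)ˣ) :
    sign (monomial π a) = sign π * ∏ i, χ (a i) := by
  rw [monomial, map_mul, sign_prodCongrLeft, sign_prodCongrRight, Finset.prod_const,
    Finset.card_univ, ZMod.card]
  congr 1
  rcases Int.units_eq_one_or (sign π) with h | h
  · rw [h, one_pow]
  · rw [h, hb.neg_one_pow]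

/-- The cycle on the `i`-th block. -/
noncomputable def blockCyc (e : Fin k × ZMod b ↪ Fin r) (hb : Odd b) (i : Fin k) :
    alternatingGroup (Fin r) :=
  ⟨via e (shift i 1), by
    rw [mem_alternatingGroup, sign_via]
    exact sign_eq_one_of_odd_pow hb (shift_pow_card i 1)⟩

variable (e : Fin k × ZMod b ↪ Fin r) (hb : Odd b)

theorem blockCyc_pow (i : Fin k) : blockCyc e hb i ^ b = 1 := by
  refine Subtype.ext ?_
  show via e (shift i 1) ^ b = 1
  rw [← map_pow, shift_pow_card, map_one]

theorem blockCyc_comm (i j : Fin k) : Commute (blockCyc e hb i) (blockCyc e hb j) := by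
  refine Subtype.ext ?_
  show via e (shift i 1) * via e (shift j 1) = via e (shift j 1) * via e (shift i 1)
  rw [← map_mul, ← map_mul, shift_comm]

theorem odd_orderOf_blockCyc (i : Fin k) : Odd (orderOf (blockCyc e hb i)) :=
  hb.of_dvd_nat (orderOf_dvd_of_pow_eq_one (blockCyc_pow e hb i))

/-- An even monomial permutation normalises the block cycles. -/
theorem blockCyc_conj {π : Perm (Fin k)} {a : Fin k → (ZMod b)ˣ}
    (hs : sign π * ∏ i, χ (a i) = 1) :
    ∃ g : alternatingGroup (Fin r), ∀ i,
      g * blockCyc e hb i * g⁻¹ = blockCyc e hb (π i) ^ (a i : ZMod b).val := by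
  refine ⟨⟨via e (monomial π a), by rw [mem_alternatingGroup, sign_via, sign_monomial hb, hs]⟩,
    fun i => Subtype.ext ?_⟩
  show via e (monomial π a) * via e (shift i 1) * (via e (monomial π a))⁻¹ =
    via e (shift (π i) 1) ^ (a i : ZMod b).val
  rw [← map_inv, ← map_mul, ← map_mul, ← map_pow, monomial_mul_shift, mul_inv_cancel_right,
    shift_pow, mul_one, ZMod.natCast_val, ZMod.cast_id]

end CfsgLib.AltSection
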