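import Cfsg.Agent.AltSection.Disj

/-!
The dichotomy.
-/

set_option autoImplicit false

namespace CfsgLib.AltSection

open Equiv Equiv.Perm Module CfsgLib.BPres

attribute [local instance] fact_five

variable {r : ℕ} {H : Type*} [Group H]
  {K V : Type*} [Field K] [AddCommGroup V] [Module K V] {C : Cover r H}

theorem natCast_ne_zero_of_prime {K : Type*} [Field K] {p b : ℕ} [CharP K p] (hp : p.Prime)
    (hb : b.Prime) (h : p ≠ b) : (b : K) ≠ 0 := fun e =>
  h ((Nat.prime_dvd_prime_iff_eq hp hb).1 ((CharP.cast_eq_zero_iff K p b).1 e))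

theorem exists_root {K : Type*} [Field K] [IsAlgClosed K] {b : ℕ} (hb : (b : K) ≠ 0) :
    ∃ ζ : K, IsPrimitiveRoot ζ b :=
  haveI : NeZero (b : K) := ⟨hb⟩
  HasEnoughRootsOfUnity.exists_primitiveRoot K b

theorem exists_chi_three : ∃ u : (ZMod 3)ˣ, χ u = -1 :=
  ⟨⟨2, 2, by decide, by decide⟩, by decide⟩

theorem exists_chi_five : ∃ u : (ZMod 5)ˣ, χ u = -1 :=
  ⟨⟨2, 3, by decide, by decide⟩, by decide⟩

theorem two_le_supp {k b : ℕ} [NeZero b] {w : Fin k → ZMod b} {i j : Fin k} (hij : i ≠ j)
    (hi : w i ≠ 0) (hj : w j ≠ 0) : 2 ≤ (supp w).card := by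
  have hsub : ({i, j} : Finset (Fin k)) ⊆ supp w := fun x hx => by
    simp only [Finset.mem_insert, Finset.mem_singleton] at hx
    rcases hx with rfl | rfl <;> rw [mem_supp] <;> assumption
  calc 2 = ({i, j} : Finset (Fin k)).card := (Finset.card_pair hij).symm
    _ ≤ _ := Finset.card_le_card hsub

theorem count_bound {k j c : ℕ} (hk : 1 ≤ k) (hj : 2 ≤ j) (hjk : j ≤ k) :
    c ^ k ≤ k.choose j * c ^ j ∨ k * c ^ 2 ≤ k.choose j * c ^ j ∨ c = 0 := by
  rcases Nat.eq_zero_or_pos c with hc | hc
  · exact Or.inr (Or.inr hc)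
  rcases hjk.lt_or_eq with hlt | rfl
  · refine Or.inr (Or.inl (Nat.mul_le_mul ?_ (Nat.pow_le_pow_right hc hj)))
    obtain ⟨j', rfl⟩ : ∃ j', j = j' + 1 := ⟨j - 1, by omega⟩
    clear hj hc hk
    induction k generalizing j' with
    | zero => omega
    | succ k ih =>
      rcases Nat.eq_or_lt_of_le (show j' + 2 ≤ k + 1 by omega) with he | hlt'
      · have : j' + 1 = k := by omega
        subst this
        rw [Nat.choose_succ_self_right]
      · rw [Nat.choose_succ_succ, Nat.succ_eq_add_one]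
        have h1 := ih j' (by omega)
        have h2 : 1 ≤ k.choose j' := Nat.choose_pos (by omega)
        omega
  · exact Or.inl (by simp)

theorem five_arith {k : ℕ} (hk : 2 ≤ k) : 5 * k + 4 ≤ 4 ^ k := by
  induction k, hk using Nat.le_induction with
  | base => norm_num
  | succ n hn ih => rw [pow_succ]; omega

theorem three_arith {k : ℕ} (hk : 4 ≤ k) : 3 * k + 2 ≤ 2 ^ k + 1 := by
  induction k, hk using Nat.le_induction with
  | base => norm_num
  | succ n hn ih => rw [pow_succ]; omega

variable [IsAlgClosed K] [FiniteDimensional K V] (R : Rep C K V)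

/-- Five-cycles: orthogonality or a large degree. -/
theorem five_case {p : ℕ} [CharP K p] (hp : p.Prime) (hp5 : p ≠ 5) (hr : 10 ≤ r) :
    Disj R ∨ r - 1 ≤ finrank K V := by
  by_cases hd : Disj R
  · exact Or.inl hd
  refine Or.inr ?_
  have hb : Odd 5 := by decide
  set k := r / 5 with hk
  have hk2 : 2 ≤ k := by omega
  haveI : NeZero k := ⟨by omega⟩
  obtain ⟨e, he⟩ : ∃ e : Fin k × ZMod 5 ↪ Fin r,
      (blockOp R e hb 0 - 1) * (blockOp R e hb ⟨1, by omega⟩ - 1) ≠ 0 := by
    by_contra h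
    push Not at h
    exact hd (disj_of_five R hk2 (by omega) (by omega) hb h)
  have hbK := natCast_ne_zero_of_prime (K := K) hp (by norm_num : Nat.Prime 5) hp5
  obtain ⟨ζ, hζ⟩ := exists_root hbK
  obtain ⟨w, hw, h0, h1⟩ := exists_weight_both hζ hbK (blockOp R e hb) (blockOp_comm R e hb)
    (blockOp_pow R e hb) he
  have hj := two_le_supp (by simp [Fin.ext_iff]) h0 h1
  have hjk : (supp w).card ≤ k := (Finset.card_le_univ _).trans_eq (Fintype.card_fin k)
  have hle := choose_mul_le_finrank R e hb hζ hk2 exists_chi_five hw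
  have h4 := five_arith hk2
  rcases count_bound (c := 5 - 1) (by omega) hj hjk with h | h | h
  · have := h.trans hle; norm_num at this; omega
  · have := h.trans hle; norm_num at this; omega
  · omega

/-- Three-cycles: orthogonality, a large degree, or the exception of degree eleven. -/
theorem three_case {p : ℕ} [CharP K p] (hp : p.Prime) (hp3 : p ≠ 3) (hr : 9 ≤ r)
    (h9 : r = 9 ∨ p = 5) :
    Disj R ∨ r - 1 - (if p ∣ r then 1 else 0) ≤ finrank K V ∨ (r = 11 ∧ p = 5) := by
  by_cases hd : Disj R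
  · exact Or.inl hd
  refine Or.inr ?_
  have hb : Odd 3 := by decide
  set k := r / 3 with hk
  have hk2 : 2 ≤ k := by omega
  obtain ⟨e, he⟩ : ∃ e : Fin k × ZMod 3 ↪ Fin r,
      (blockOp R e hb ⟨0, by omega⟩ - 1) * (blockOp R e hb ⟨1, by omega⟩ - 1) ≠ 0 := by
    by_contra h
    push Not at h
    exact hd (disj_of_three R hk2 (by omega) (by omega) hb h)
  have hbK := natCast_ne_zero_of_prime (K := K) hp Nat.prime_three hp3
  obtain ⟨ζ, hζ⟩ := exists_root hbK
  obtain ⟨w, hw, h0, h1⟩ := exists_weight_both hζ hbK (blockOp R e hb) (blockOp_comm R e hb)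
    (blockOp_pow R e hb) he
  have hj := two_le_supp (by simp) h0 h1
  have hjk : (supp w).card ≤ k := (Finset.card_le_univ _).trans_eq (Fintype.card_fin k)
  have hle := choose_mul_le_finrank R e hb hζ hk2 exists_chi_three hw
  rcases count_bound (c := 3 - 1) (by omega) hj hjk with h | h | h
  · have h' := h.trans hle
    norm_num at h'
    by_cases hk4 : 4 ≤ k
    · have := three_arith hk4
      left; omega
    · have hk3 : k = 3 := by omega
      rw [hk3] at h'
      norm_num at h'
      rcases h9 with h9 | h9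
      · left; omega
      · by_cases h11 : r = 11
        · exact Or.inr ⟨h11, h9⟩
        · left
          by_cases hpr : p ∣ r
          · rw [if_pos hpr]; omega
          · rw [if_neg hpr]
            subst h9
            omega
  · have h' := h.trans hle
    norm_num at h'
    left; omega
  · omega

/-- The exception: degree eleven in characteristic five. -/
theorem eleven_case [CharP K 5] {C : Cover 11 H} (R : Rep C K V) :
    Disj R ∨ 10 ≤ finrank K V := by
  by_cases hd : Disj R
  · exact Or.inl hd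
  refine Or.inr ?_
  by_contra hn
  push Not at hn
  have hb : Odd 3 := by decide
  have h5p : Nat.Prime 5 := by norm_num
  have hbK := natCast_ne_zero_of_prime (K := K) h5p Nat.prime_three (by norm_num)
  obtain ⟨ζ, hζ⟩ := exists_root hbK
  -- a full weight
  have hsupp3 : ∀ (e : Fin 3 × ZMod 3 ↪ Fin 11) (w : Fin 3 → ZMod 3),
      IsWeight (blockOp R e hb) ζ w → (supp w).card ≠ 2 := by
    intro e w hw h2
    have := choose_mul_le_finrank R e hb hζ (by omega) exists_chi_three hw
    rw [h2] at this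
    have h12 : Nat.choose 3 2 * (3 - 1) ^ 2 = 12 := by decide
    omega
  have hfull : ∀ e : Fin 3 × ZMod 3 ↪ Fin 11, (blockOp R e hb 0 - 1) * (blockOp R e hb 1 - 1) ≠ 0 →
      ∃ w : Fin 3 → ZMod 3, IsWeight (blockOp R e hb) ζ w ∧ (supp w).card = 3 := by
    intro e he
    obtain ⟨w, hw, h0, h1⟩ := exists_weight_both hζ hbK (blockOp R e hb) (blockOp_comm R e hb)
      (blockOp_pow R e hb) he
    have hj := two_le_supp (by decide : (0 : Fin 3) ≠ 1) h0 h1
    have hjk : (supp w).card ≤ 3 := (Finset.card_le_univ _).trans_eq (Fintype.card_fin 3)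
    exact ⟨w, hw, by have := hsupp3 e w hw; omega⟩
  obtain ⟨e₀, he₀⟩ : ∃ e : Fin 3 × ZMod 3 ↪ Fin 11,
      (blockOp R e hb 0 - 1) * (blockOp R e hb 1 - 1) ≠ 0 := by
    by_contra h
    push Not at h
    exact hd (disj_of_three R (k := 3) (by omega) (by omega) (by omega) hb h)
  obtain ⟨w₃, hw₃, hc₃⟩ := hfull e₀ he₀
  -- changing the embedding by an even permutation preserves weights
  have hmove : ∀ (e : Fin 3 × ZMod 3 ↪ Fin 11) (w : Fin 3 → ZMod 3),
      IsWeight (blockOp R e₀ hb) ζ w → IsWeight (blockOp R e hb) ζ w := by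
    intro e w hw
    let Q : Fin 3 × ZMod 3 ≃ Fin (3 * 3) :=
      ((Equiv.refl (Fin 3)).prodCongr (ZMod.finEquiv 3).toEquiv.symm).trans finProdFinEquiv
    obtain ⟨g, hg⟩ := exists_even_map (m := 3 * 3) (by simp) (fun t => e₀ (Q.symm t))
      (fun t => e (Q.symm t)) (e₀.injective.comp Q.symm.injective) (e.injective.comp Q.symm.injective)
    have hge : ∀ x, (g : Perm (Fin 11)) (e₀ x) = e x := fun x => by
      simpa using hg (Q x)
    obtain ⟨h, rfl⟩ := C.surj g
    have hop : ∀ i, h * C.lift (blockCyc e₀ hb i) * h⁻¹ = C.lift (blockCyc e hb i) := fun i => by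
      rw [C.lift_conj (odd_orderOf_blockCyc e₀ hb i)]
      congr 1
      rw [blockCyc_three, blockCyc_three, cyc_conj _ (e₀.injective.ne (by simp))
        (e₀.injective.ne (by simp; decide)), hge, hge, hge]
    obtain ⟨v, hv0, hv⟩ := hw
    refine ⟨R.ρ h v, fun h0 => hv0 ?_, fun i => ?_⟩
    · have := congrArg (R.ρ h⁻¹) h0
      rwa [← Module.End.mul_apply, ← map_mul, inv_mul_cancel, map_one, Module.End.one_apply,
        map_zero] at this
    · rw [blockOp, ← hop i, map_mul, map_mul, ← blockOp, Module.End.mul_apply, Module.End.mul_apply,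
        ← Module.End.mul_apply (R.ρ h⁻¹), ← map_mul, inv_mul_cancel, map_one, Module.End.one_apply,
        hv, map_smul]
  -- weights have full support or none
  have hdich : ∀ (e : Fin 3 × ZMod 3 ↪ Fin 11) (w : Fin 3 → ZMod 3),
      IsWeight (blockOp R e hb) ζ w → (supp w).card ≠ 1 := by
    intro e w hw h1
    have := card_weights_le hζ (blockOp R e hb)
      ((Finset.univ : Finset (Fin 3 → ZMod 3)).filter fun u => (supp u).card = 1 ∨ (supp u).card = 3)
      fun u hu => by
        rcases (Finset.mem_filter.1 hu).2 with hu | hu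
        · exact isWeight_of_supp_card R e hb hζ (by omega) exists_chi_three hw (h1.trans hu.symm)
        · exact isWeight_of_supp_card R e hb hζ (by omega) exists_chi_three (hmove e w₃ hw₃)
            (hc₃.trans hu.symm)
    have h14 : ((Finset.univ : Finset (Fin 3 → ZMod 3)).filter
        fun u => (supp u).card = 1 ∨ (supp u).card = 3).card = 14 := by decide
    omega
  -- fixed spaces of disjoint lifts agree
  have hker : ∀ x : Fin 6 → Fin 11, Function.Injective x →
      LinearMap.ker (R.ρ (C.tl (x 0) (x 1) (x 2)) - 1) ≤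
        LinearMap.ker (R.ρ (C.tl (x 3) (x 4) (x 5)) - 1) := by
    intro x hx
    obtain ⟨e, he⟩ := exists_block_emb (k := 3) (b := 3) (m := 6) (r := 11) (by omega) (by omega)
      ![(0, 0), (0, 1), (0, 2), (1, 0), (1, 1), (1, 2)] x (by decide) hx
    have e0 := he 0; have e1 := he 1; have e2 := he 2
    have e3 := he 3; have e4 := he 4; have e5 := he 5
    simp only [Matrix.cons_val] at e0 e1 e2 e3 e4 e5
    rw [← e0, ← e1, ← e2, ← e3, ← e4, ← e5, ← blockOp_three R e hb, ← blockOp_three R e hb]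
    set f := blockOp R e hb with hf
    intro u hu
    by_contra hu1
    set W := (LinearMap.ker (f 0 - 1)).map (f 1 - 1)
    have hcomm : ∀ i j, f i * f j = f j * f i := blockOp_comm R e hb
    have hfixW : ∀ y ∈ W, f 0 y = y := by
      rintro _ ⟨z, hz, rfl⟩
      have hz' : f 0 z = z := sub_eq_zero.1 (LinearMap.mem_ker.1 hz)
      simp only [LinearMap.sub_apply, Module.End.one_apply, map_sub]
      rw [← Module.End.mul_apply, hcomm, Module.End.mul_apply, hz']
    obtain ⟨w, v, hv, hv0, hev⟩ := exists_weight_mem hζ f hcomm (blockOp_pow R e hb) W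
      (fun hW => hu1 (by
        have : (f 1 - 1) u ∈ W := ⟨u, hu, rfl⟩
        rwa [hW, Submodule.mem_bot] at this))
      (fun i y hy => by
        obtain ⟨z, hz, rfl⟩ := hy
        refine ⟨f i z, ?_, ?_⟩
        · show (f 0 - 1) (f i z) = 0
          rw [← Module.End.mul_apply, ← (Commute.sub_right (hcomm i 0) (Commute.one_right _)).eq,
            Module.End.mul_apply, LinearMap.mem_ker.1 hz, map_zero]
        · rw [← Module.End.mul_apply, ← (Commute.sub_right (hcomm i 1) (Commute.one_right _)).eq,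
            Module.End.mul_apply])
    have hw0 : w 0 = 0 := by
      by_contra h
      have := hev 0
      rw [hfixW v hv] at this
      have h2 : (ζ ^ (w 0).val - 1) • v = 0 := by rw [sub_smul, one_smul, ← this, sub_self]
      have h3 := sub_eq_zero.1 ((smul_eq_zero.1 h2).resolve_right hv0)
      exact h (pow_val_inj hζ (h3.trans (by simp)))
    have hw1 : w 1 ≠ 0 := fun h => by
      obtain ⟨z, -, hz⟩ := hv
      exact hv0 (eq_zero_of_mem_range_sub_one hbK (blockOp_pow R e hb 1)
        (by rw [← hf, hev 1, h]; simp) ⟨z, hz⟩)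
    have hwt : IsWeight f ζ w := ⟨v, hv0, hev⟩
    have hle2 : (supp w).card ≤ 2 := by
      calc (supp w).card ≤ ((Finset.univ : Finset (Fin 3)).erase 0).card :=
            Finset.card_le_card fun i hi =>
              Finset.mem_erase.2 ⟨fun h => mem_supp.1 hi (h ▸ hw0), Finset.mem_univ i⟩
        _ = 2 := by decide
    have hpos : 0 < (supp w).card := Finset.card_pos.2 ⟨1, mem_supp.2 hw1⟩
    have := hdich e w hwt
    have := hsupp3 e w hwt
    omega
  have hkereq : ∀ a b i a' b' i' : Fin 11, Function.Injective ![a, b, i] →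
      Function.Injective ![a', b', i'] →
      LinearMap.ker (R.ρ (C.tl a b i) - 1) ≤ LinearMap.ker (R.ρ (C.tl a' b' i') - 1) := by
    intro a b i a' b' i' hx hy
    have hcard : 3 ≤ (({a, b, i, a', b', i'} : Finset (Fin 11))ᶜ).card := by
      have := Finset.card_le_six (a := a) (b := b) (c := i) (d := a') (e := b') (f := i')
      rw [Finset.card_compl, Fintype.card_fin]
      omega
    obtain ⟨t, hts, htc⟩ := Finset.exists_subset_card_eq hcard
    obtain ⟨u, v, w, huv, huw, hvw, rfl⟩ := Finset.card_eq_three.1 htc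
    have hu := hts (show u ∈ ({u, v, w} : Finset (Fin 11)) by simp)
    have hv := hts (show v ∈ ({u, v, w} : Finset (Fin 11)) by simp)
    have hw := hts (show w ∈ ({u, v, w} : Finset (Fin 11)) by simp)
    simp only [Finset.mem_compl, Finset.mem_insert, Finset.mem_singleton, not_or] at hu hv hw
    have ha : ∀ {s t : Fin 3}, s ≠ t → ![a, b, i] s ≠ ![a, b, i] t := fun h h' => h (hx h')
    have hb' : ∀ {s t : Fin 3}, s ≠ t → ![a', b', i'] s ≠ ![a', b', i'] t := fun h h' => h (hy h')
    have hab := ha (show (0 : Fin 3) ≠ 1 by decide)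
    have hai := ha (show (0 : Fin 3) ≠ 2 by decide)
    have hbi := ha (show (1 : Fin 3) ≠ 2 by decide)
    have hab' := hb' (show (0 : Fin 3) ≠ 1 by decide)
    have hai' := hb' (show (0 : Fin 3) ≠ 2 by decide)
    have hbi' := hb' (show (1 : Fin 3) ≠ 2 by decide)
    simp only [Matrix.cons_val] at hab hai hbi hab' hai' hbi'
    refine (hker ![a, b, i, u, v, w] ?_).trans (hker ![u, v, w, a', b', i'] ?_)
    · intro s t hst
      fin_cases s <;> fin_cases t <;>
        simp [hab, hai, hbi, Ne.symm hab, Ne.symm hai, Ne.symm hbi, huv, huw, hvw, Ne.symm huv,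
          Ne.symm huw, Ne.symm hvw, hu, hv, hw, Ne.symm hu.1, Ne.symm hu.2.1, Ne.symm hu.2.2.1,
          Ne.symm hv.1, Ne.symm hv.2.1, Ne.symm hv.2.2.1, Ne.symm hw.1, Ne.symm hw.2.1,
          Ne.symm hw.2.2.1] at hst ⊢
    · intro s t hst
      fin_cases s <;> fin_cases t <;>
        simp [hab', hai', hbi', Ne.symm hab', Ne.symm hai', Ne.symm hbi', huv, huw, hvw,
          Ne.symm huv, Ne.symm huw, Ne.symm hvw, hu, hv, hw, Ne.symm hu.2.2.2.1,
          Ne.symm hu.2.2.2.2.1, Ne.symm hu.2.2.2.2.2, Ne.symm hv.2.2.2.1, Ne.symm hv.2.2.2.2.1,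
          Ne.symm hv.2.2.2.2.2, Ne.symm hw.2.2.2.1, Ne.symm hw.2.2.2.2.1,
          Ne.symm hw.2.2.2.2.2] at hst ⊢
  have hinj3 : ∀ {a b i : Fin 11}, a ≠ b → a ≠ i → b ≠ i → Function.Injective ![a, b, i] := by
    intro a b i hab hai hbi s t hst
    fin_cases s <;> fin_cases t <;> simp_all [eq_comm]
  have h78 : (7 : Fin 11) ≠ 8 := by decide
  have h79 : (7 : Fin 11) ≠ 9 := by decide
  have h89 : (8 : Fin 11) ≠ 9 := by decide
  have h710 : (7 : Fin 11) ≠ 10 := by decide
  have h810 : (8 : Fin 11) ≠ 10 := by decide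
  have h910 : (9 : Fin 11) ≠ 10 := by decide
  set W := LinearMap.ker (R.ρ (C.tl (7 : Fin 11) 8 9) - 1) with hW
  have hWbot : W = ⊥ := by
    refine (R.irred W fun h v hv => ?_).resolve_right fun htop => ?_
    · set g := (C.π h : Perm (Fin 11)) with hg
      have hv' := hkereq 7 8 9 (g⁻¹ 7) (g⁻¹ 8) (g⁻¹ 9) (hinj3 h78 h79 h89)
        (hinj3 (g⁻¹.injective.ne h78) (g⁻¹.injective.ne h79) (g⁻¹.injective.ne h89)) hv
      rw [LinearMap.mem_ker, LinearMap.sub_apply, Module.End.one_apply, sub_eq_zero] at hv'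
      have hconj := C.tl_conj (g⁻¹.injective.ne h78) (g⁻¹.injective.ne h79)
        (g⁻¹.injective.ne h89) h
      rw [← hg] at hconj
      simp only [Equiv.Perm.coe_inv, Equiv.apply_symm_apply] at hconj
      rw [mul_inv_eq_iff_eq_mul] at hconj
      rw [hW, LinearMap.mem_ker, LinearMap.sub_apply, Module.End.one_apply, sub_eq_zero,
        ← Module.End.mul_apply, ← map_mul, ← hconj, map_mul, Module.End.mul_apply]
      exact congrArg _ hv'
    · have hT : R.ρ (C.tl (7 : Fin 11) 8 9) = 1 :=
        sub_eq_zero.1 (LinearMap.ker_eq_top.1 htop)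
      have := congrArg C.π (R.faithful _ hT)
      rw [C.π_tl h78 h79 h89, map_one] at this
      have h7 := congrArg (fun g : alternatingGroup (Fin 11) => (g : Perm (Fin 11)) 7) this
      simp [cyc_apply_a h78 h79 h89] at h7
  have hq : ∀ a b i : Fin 11, a ≠ b → a ≠ i → b ≠ i →
      R.ρ (C.tl a b i) * R.ρ (C.tl a b i) + R.ρ (C.tl a b i) + 1 = 0 := by
    intro a b i hab hai hbi
    set T := R.ρ (C.tl a b i)
    have hT3 : (T - 1) * (T * T + T + 1) = 0 := by
      have h : T * T * T = 1 := by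
        rw [← map_mul, ← map_mul, ← pow_two, ← pow_succ, C.tl_cube hab hai hbi, map_one]
      have : (T - 1) * (T * T + T + 1) = T * T * T - 1 := by noncomm_ring
      rw [this, h, sub_self]
    have hk : LinearMap.ker (T - 1) = ⊥ :=
      eq_bot_iff.2 ((hkereq a b i 7 8 9 (hinj3 hab hai hbi) (hinj3 h78 h79 h89)).trans_eq hWbot)
    refine LinearMap.ext fun v => ?_
    have h0 : (T - 1) ((T * T + T + 1) v) = 0 := by
      rw [← Module.End.mul_apply, hT3, LinearMap.zero_apply]
    have : (T * T + T + 1) v ∈ LinearMap.ker (T - 1) := h0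
    rw [hk, Submodule.mem_bot] at this
    simpa using this
  -- a seven-cycle
  haveI : Fact (Nat.Prime 7) := ⟨by norm_num⟩
  have hb7 : Odd 7 := by decide
  have h7K := natCast_ne_zero_of_prime (K := K) h5p (by norm_num : Nat.Prime 7) (by norm_num)
  obtain ⟨ξ, hξ⟩ := exists_root h7K
  let e7 : Fin 1 × ZMod 7 ↪ Fin 11 :=
    ⟨fun x => (⟨x.2.val, by have := ZMod.val_lt x.2; omega⟩ : Fin 11), fun x y hxy =>
      Prod.ext (Subsingleton.elim _ _) (ZMod.val_injective 7 (by simpa [Fin.ext_iff] using hxy))⟩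
  have hout : ∀ x : Fin 11, 7 ≤ (x : ℕ) → ∀ t, e7 (0, t) ≠ x := fun x hx t h => by
    have h1 : ((e7 (0, t)) : ℕ) = t.val := rfl
    rw [h] at h1
    have h2 := ZMod.val_lt t
    omega
  set T1 := C.tl (7 : Fin 11) 8 9 with hT1
  set T2 := C.tl (7 : Fin 11) 8 10 with hT2
  have hout7 := hout 7 (by decide)
  have hout8 := hout 8 (by decide)
  have hout9 := hout 9 (by decide)
  have hout10 := hout 10 (by decide)
  have hc1 := R.tl_blockOp_comm e7 hb7 0 h78 h79 h89 hout7 hout8 hout9
  have hc2 := R.tl_blockOp_comm e7 hb7 0 h78 h710 h810 hout7 hout8 hout10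
  have hne7 : (blockOp R e7 hb7 0 - 1) * (1 : Module.End K V) ≠ 0 := fun h => by
    rw [mul_one, sub_eq_zero] at h
    have h' := congrArg C.π (R.faithful _ h)
    rw [C.π_lift (odd_orderOf_blockCyc e7 hb7 0), map_one] at h'
    have h7 := congrArg (fun g : alternatingGroup (Fin 11) => (g : Perm (Fin 11)) (e7 (0, 0))) h'
    simp only [blockCyc_apply, shift_apply, Subgroup.coe_one, Perm.one_apply, if_true,
      add_zero] at h7
    have h8 : (1 : ZMod 7) = 0 := (Prod.ext_iff.1 (e7.injective h7)).2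
    exact absurd h8 one_ne_zero
  obtain ⟨a, ha, v, hv, hv0, -⟩ := exists_eig_ne_bot R e7 hb7 hξ h7K 1 (by rw [mul_one, one_mul]) hne7
  have hdim : finrank K (eig R e7 hb7 ξ a) ≤ 1 := by
    by_contra h
    have := eig_bound R e7 hb7 (by omega) hξ (m := 2) ha (by omega)
    omega
  have hline : ∀ u : Module.End K V, Commute u (blockOp R e7 hb7 0) → ∃ c : K, u v = c • v := by
    intro u hu
    have hmem : u v ∈ eig R e7 hb7 ξ a := by
      rw [mem_eig] at hv ⊢
      rw [← Module.End.mul_apply, ← hu.eq, Module.End.mul_apply, hv, map_smul]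
    obtain ⟨w, hw⟩ := finrank_le_one_iff.1 hdim
    obtain ⟨c1, hc1'⟩ := hw ⟨v, hv⟩
    obtain ⟨c2, hc2'⟩ := hw ⟨u v, hmem⟩
    have hc1'' : c1 • (w : V) = v := congrArg Subtype.val hc1'
    have hc2'' : c2 • (w : V) = u v := congrArg Subtype.val hc2'
    have hc10 : c1 ≠ 0 := fun h => hv0 (by rw [← hc1'', h, zero_smul])
    exact ⟨c2 / c1, by rw [← hc2'', ← hc1'', smul_smul, div_mul_cancel₀ c2 hc10]⟩
  obtain ⟨x1, hx1⟩ := hline _ hc1
  obtain ⟨x2, hx2⟩ := hline _ hc2
  set h := C.tl (7 : Fin 11) 9 8 * C.tl (7 : Fin 11) 9 10 with hh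
  have hch : Commute (R.ρ h) (blockOp R e7 hb7 0) := by
    rw [hh, map_mul]
    exact (R.tl_blockOp_comm e7 hb7 0 h79 h78 h89.symm hout7 hout9 hout8).mul_left
      (R.tl_blockOp_comm e7 hb7 0 h79 h710 h910 hout7 hout9 hout10)
  obtain ⟨c, hc⟩ := hline _ hch
  have hgval : (C.π h : Perm (Fin 11)) 7 = 8 ∧ (C.π h : Perm (Fin 11)) 8 = 7 ∧
      (C.π h : Perm (Fin 11)) 9 = 10 := by
    rw [hh, map_mul, C.π_tl h79 h78 h89.symm, C.π_tl h79 h710 h910]
    decide
  have hconj : h * T1 = T2 ^ 2 * h := by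
    rw [← mul_inv_eq_iff_eq_mul, hT1, C.tl_conj h78 h79 h89, hgval.1, hgval.2.1, hgval.2.2,
      C.tl_swap h78 h710 h810]
  have hx12 : x1 = x2 ^ 2 := by
    have := congrArg (fun z => R.ρ z v) hconj
    simp only [map_mul, map_pow, Module.End.mul_apply, pow_two, hT1, hT2, hx1, hx2, hc, map_smul,
      smul_smul] at this
    have hc0 : c ≠ 0 := fun h0 => hv0 (by
      have h1 := congrArg (R.ρ h⁻¹) hc
      rwa [← Module.End.mul_apply, ← map_mul, inv_mul_cancel, map_one, Module.End.one_apply, h0,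
        zero_smul, map_zero] at h1)
    have h2 : (x1 * c - c * x2 * x2) • v = 0 := by rw [sub_smul, this, mul_assoc, sub_self]
    have h3 := sub_eq_zero.1 ((smul_eq_zero.1 h2).resolve_right hv0)
    refine mul_right_cancel₀ hc0 (h3.trans ?_)
    ring
  have hx23 : x2 ^ 3 = 1 := by
    have hx2' : R.ρ T2 v = x2 • v := hx2
    have h3 : R.ρ (T2 * T2 * T2) v = v := by
      rw [← pow_two, ← pow_succ, hT2, C.tl_cube h78 h710 h810, map_one, Module.End.one_apply]
    rw [map_mul, map_mul, Module.End.mul_apply, Module.End.mul_apply, hx2', map_smul, hx2',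
      smul_smul, map_smul, hx2', smul_smul] at h3
    have h2 : (x2 * x2 * x2 - 1) • v = 0 := by rw [sub_smul, one_smul, h3, sub_self]
    have h4 := sub_eq_zero.1 ((smul_eq_zero.1 h2).resolve_right hv0)
    rw [← h4]; ring
  have hfix : R.ρ ((T1 * T2) ^ 2) v = v := by
    simp only [map_pow, map_mul, pow_two, Module.End.mul_apply, hT1, hT2, hx1, hx2, map_smul, smul_smul]
    rw [show x2 * x1 * (x2 * x1) = (x2 ^ 3) ^ 2 by rw [hx12]; ring, hx23, one_pow, one_smul]
  have hker1 : (T1 * T2) ^ 2 ∈ C.π.ker := by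
    rw [MonoidHom.mem_ker, map_pow, map_mul, C.π_tl h78 h79 h89, C.π_tl h78 h710 h810]
    exact cyc_sq h78 h79 h89 h710 h810 h910
  have h2K : (2 : K) ≠ 0 := by
    simpa using natCast_ne_zero_of_prime (K := K) h5p Nat.prime_two (by norm_num)
  exact R.false_of_quadratic h2K hq h78 h79 h710 h89 h810 h910 (R.eq_one_of_fix hker1 hv0 hfix)

/-- Degree nine in characteristic three. -/
theorem nine_case [CharP K 3] {C : Cover 9 H} (R : Rep C K V) :
    Disj R ∨ 8 ≤ finrank K V := by
  by_cases hn : 8 ≤ finrank K V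
  · exact Or.inr hn
  refine Or.inl fun x hx => ?_
  have hb : Odd 5 := by decide
  have h5 := natCast_ne_zero_of_prime (K := K) Nat.prime_three (by norm_num : Nat.Prime 5)
    (by norm_num)
  obtain ⟨ζ, hζ⟩ := exists_root h5
  let f : Fin 1 × ZMod 5 ↪ Fin 9 :=
    ⟨fun p => (⟨p.2.val, by have := ZMod.val_lt p.2; omega⟩ : Fin 9), fun p q hpq =>
      Prod.ext (Subsingleton.elim _ _) (ZMod.val_injective 5 (by simpa [Fin.ext_iff] using hpq))⟩
  obtain ⟨g, hg⟩ := exists_even_map (α := Fin 9) (m := 6) (by simp) ![0, 1, 2, 5, 6, 7] x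
    (by decide) hx
  set e := f.trans (g : Perm (Fin 9)).toEmbedding with he
  have e0 : e (0, 0) = x 0 := hg 0
  have e1 : e (0, 1) = x 1 := hg 1
  have e2 : e (0, 2) = x 2 := hg 2
  have hout : ∀ i : Fin 6, 3 ≤ (i : ℕ) → ∀ t, e (0, t) ≠ x i := by
    intro i hi t h
    rw [← hg i] at h
    have h1 := (g : Perm (Fin 9)).injective h
    have h2 : ((![0, 1, 2, 5, 6, 7] : Fin 6 → Fin 9) i : ℕ) < 5 := by
      rw [← h1]; exact ZMod.val_lt t
    revert hi h2
    clear h h1
    revert i
    decide
  have hne : ∀ {a b : Fin 6}, a ≠ b → x a ≠ x b := fun h h' => h (hx h')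
  set T := R.ρ (C.tl (x 3) (x 4) (x 5))
  have key : ∀ e' : Fin 1 × ZMod 5 ↪ Fin 9, (∀ t, e' (0, t) ≠ x 3) → (∀ t, e' (0, t) ≠ x 4) →
      (∀ t, e' (0, t) ≠ x 5) → (blockOp R e' hb 0 - 1) * (T - 1) = 0 := by
    intro e' h3 h4 h5'
    by_contra hne'
    have hc : Commute T (blockOp R e' hb 0) :=
      R.tl_blockOp_comm e' hb 0 (hne (by decide)) (hne (by decide)) (hne (by decide)) h3 h4 h5'
    obtain ⟨a, ha, v, hv, hv0, hvr⟩ := exists_eig_ne_bot R e' hb hζ h5 (T - 1)
      (hc.symm.sub_right (Commute.one_right _)).eq hne'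
    have hdim : finrank K (eig R e' hb ζ a) ≤ 1 := by
      by_contra h
      have := eig_bound R e' hb (by omega) hζ (m := 2) ha (by omega)
      omega
    set E := eig R e' hb ζ a with hE
    -- the projection to the eigenspace
    set μ := ζ ^ a.val with hμ
    have hμ5 : μ ^ 5 = 1 := by rw [hμ, pow_right_comm, hζ.pow_eq_one, one_pow]
    have hμ0 : μ ≠ 0 := fun h => by simp [h] at hμ5
    set O := blockOp R e' hb 0 with hO
    set P : Module.End K V := ∑ l ∈ Finset.range 5, (μ⁻¹ • O) ^ l with hP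
    have hO5 : (μ⁻¹ • O) ^ 5 = 1 := by
      rw [smul_pow, inv_pow, hμ5, inv_one, one_smul, hO]
      exact blockOp_pow R e' hb 0
    have hPE : ∀ u, P u ∈ E := fun u => by
      rw [hE, mem_eig, ← hμ, ← hO]
      have h1 : ((μ⁻¹ • O - 1) * P) u = 0 := by
        rw [hP, mul_geom_sum, hO5, sub_self, LinearMap.zero_apply]
      simp only [Module.End.mul_apply, LinearMap.sub_apply, LinearMap.smul_apply,
        Module.End.one_apply, sub_eq_zero] at h1
      conv_rhs => rw [← h1]
      rw [smul_smul, mul_inv_cancel₀ hμ0, one_smul]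
    have hcP : Commute (T - 1) P := by
      refine Commute.sum_right _ _ _ fun l _ => Commute.pow_right ?_ l
      exact ((hc.sub_left (Commute.one_left _)).smul_right _)
    have hvE : O v = μ • v := by rw [hE, mem_eig] at hv; exact hv
    have hPv : P v = (5 : K) • v := by
      have hl : ∀ l : ℕ, ((μ⁻¹ • O) ^ l) v = v := fun l => by
        induction l with
        | zero => simp
        | succ l ih =>
          rw [pow_succ', Module.End.mul_apply, ih, LinearMap.smul_apply, hvE, smul_smul,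
            inv_mul_cancel₀ hμ0, one_smul]
      rw [hP, LinearMap.sum_apply, Finset.sum_congr rfl (fun l _ => hl l), Finset.sum_const,
        Finset.card_range, ← Nat.cast_smul_eq_nsmul K]
      norm_num
    -- the three-cycle fixes the eigenline
    obtain ⟨w, hw⟩ := finrank_le_one_iff.1 hdim
    have hTw : (T - 1) (w : V) = 0 := by
      have hmem : T (w : V) ∈ E := by
        have hw2 : O (w : V) = μ • (w : V) := (mem_eig R e' hb).1 w.2
        refine (mem_eig R e' hb).2 ?_
        show O (T (w : V)) = μ • T (w : V)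
        rw [← Module.End.mul_apply, ← hc.eq, Module.End.mul_apply, hw2, map_smul]
      obtain ⟨c, hc'⟩ := hw ⟨_, hmem⟩
      have hc'' : c • (w : V) = T w := congrArg Subtype.val hc'
      have hT3 : T * T * T = 1 := by
        show R.ρ (C.tl (x 3) (x 4) (x 5)) * _ * _ = _
        rw [← map_mul, ← map_mul, ← pow_two, ← pow_succ,
          C.tl_cube (hne (by decide)) (hne (by decide)) (hne (by decide)), map_one]
      have hc3 : (c * c * c) • (w : V) = w := by
        have h := LinearMap.congr_fun hT3 (w : V)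
        simp only [Module.End.mul_apply, Module.End.one_apply, ← hc'', map_smul, smul_smul] at h
        rwa [mul_assoc]
      rw [LinearMap.sub_apply, Module.End.one_apply, ← hc'']
      by_cases hw0 : (w : V) = 0
      · simp [hw0]
      have h1 : c * c * c = 1 := by
        have : (c * c * c - 1) • (w : V) = 0 := by rw [sub_smul, hc3, one_smul, sub_self]
        exact sub_eq_zero.1 ((smul_eq_zero.1 this).resolve_right hw0)
      have h3' : (3 : K) = 0 := by simpa using CharP.cast_eq_zero K 3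
      have : (c - 1) ^ 3 = 0 := by linear_combination h1 + (c - c ^ 2) * h3'
      rw [sub_eq_zero.1 (pow_eq_zero_iff (by norm_num) |>.1 this), one_smul, sub_self]
    obtain ⟨u, hu⟩ := hvr
    refine hv0 ?_
    have : (5 : K) • v = 0 := by
      rw [← hPv, ← hu, ← Module.End.mul_apply, ← hcP.eq, Module.End.mul_apply]
      obtain ⟨c, hc'⟩ := hw ⟨_, hPE u⟩
      have hc'' : c • (w : V) = P u := congrArg Subtype.val hc'
      rw [← hc'', map_smul, hTw, smul_zero]
    exact (smul_eq_zero.1 this).resolve_left (by simpa using h5)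
  have := R.five_to_three e hb (T - 1) (key e (hout 3 le_rfl) (hout 4 (by simp)) (hout 5 (by simp)))
    (by
      refine key _ ?_ ?_ ?_ <;> intro t <;> rw [relabel_apply]
      · obtain ⟨s, hs⟩ : ∃ s, Equiv.swap ((0 : Fin 1), (1 : ZMod 5)) (0, 2) (0, t) = (0, s) :=
          ⟨_, Prod.ext (Subsingleton.elim _ _) rfl⟩
        rw [hs]; exact hout 3 le_rfl s
      · obtain ⟨s, hs⟩ : ∃ s, Equiv.swap ((0 : Fin 1), (1 : ZMod 5)) (0, 2) (0, t) = (0, s) :=
          ⟨_, Prod.ext (Subsingleton.elim _ _) rfl⟩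
        rw [hs]; exact hout 4 (by simp) s
      · obtain ⟨s, hs⟩ : ∃ s, Equiv.swap ((0 : Fin 1), (1 : ZMod 5)) (0, 2) (0, t) = (0, s) :=
          ⟨_, Prod.ext (Subsingleton.elim _ _) rfl⟩
        rw [hs]; exact hout 5 (by simp) s)
  rwa [e0, e1, e2] at this

/-- The dichotomy. -/
theorem disj_or_bound {p : ℕ} [CharP K p] (hp : p.Prime) (hr : 9 ≤ r) :
    Disj R ∨ r - 1 - (if p ∣ r then 1 else 0) ≤ finrank K V := by
  by_cases h9 : r = 9
  · by_cases h3 : p = 3
    · subst h9 h3
      rcases nine_case R with h | h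
      · exact Or.inl h
      · exact Or.inr (by omega)
    · rcases three_case R hp h3 hr (Or.inl h9) with h | h | h
      · exact Or.inl h
      · exact Or.inr h
      · omega
  by_cases h5 : p = 5
  · rcases three_case R hp (by omega) hr (Or.inr h5) with h | h | h
    · exact Or.inl h
    · exact Or.inr h
    · obtain ⟨h11, -⟩ := h
      subst h11 h5
      rcases eleven_case R with h | h
      · exact Or.inl h
      · exact Or.inr (by omega)
  · rcases five_case R hp h5 (by omega) with h | h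
    · exact Or.inl h
    · exact Or.inr (by omega)

end CfsgLib.AltSection
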