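import Cfsg.Agent.AltSection.Standard

/-!
Orthogonal images of disjoint three-cycles bound the degree from below.
-/

set_option autoImplicit false

namespace CfsgLib.AltSection

open Equiv Equiv.Perm Module CfsgLib.BPres

variable {r : ℕ} {K V : Type*} [Field K] [AddCommGroup V] [Module K V]
  (P : alternatingGroup (Fin r) →* Module.End K V)

/-- The space spanned by the images of the three-cycles supported in `J`. -/
def tspace (J : Finset (Fin r)) : Submodule K V :=
  ⨆ x : {x : Fin 3 → Fin r // Function.Injective x ∧ ∀ i, x i ∈ J},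
    LinearMap.range (P (cyc (x.1 0) (x.1 1) (x.1 2)) - 1)

theorem triple_inj {α : Type*} {a b i : α} (hab : a ≠ b) (hai : a ≠ i) (hbi : b ≠ i) :
    Function.Injective ![a, b, i] := by
  intro s t hst
  fin_cases s <;> fin_cases t <;>
    simp [hab, hai, hbi, hab.symm, hai.symm, hbi.symm] at hst ⊢

theorem range_le_tspace {J : Finset (Fin r)} {a b i : Fin r} (hab : a ≠ b) (hai : a ≠ i)
    (hbi : b ≠ i) (ha : a ∈ J) (hb : b ∈ J) (hi : i ∈ J) :
    LinearMap.range (P (cyc a b i) - 1) ≤ tspace P J :=
  le_iSup_of_le (ι := {x : Fin 3 → Fin r // Function.Injective x ∧ ∀ i, x i ∈ J})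
    ⟨![a, b, i], triple_inj hab hai hbi, fun t => by fin_cases t <;> assumption⟩ (by simp)

theorem tspace_mono {J J' : Finset (Fin r)} (h : J ⊆ J') : tspace P J ≤ tspace P J' :=
  iSup_le fun x => le_iSup_of_le
    (ι := {x : Fin 3 → Fin r // Function.Injective x ∧ ∀ i, x i ∈ J'})
    ⟨x.1, x.2.1, fun i => h (x.2.2 i)⟩ le_rfl

theorem P_inv_apply (σ : alternatingGroup (Fin r)) (v : V) : P σ⁻¹ (P σ v) = v := by
  rw [← Module.End.mul_apply, ← map_mul, inv_mul_cancel, map_one, Module.End.one_apply]

theorem P_injective_apply (σ : alternatingGroup (Fin r)) : Function.Injective (P σ) :=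
  fun x y h => by rw [← P_inv_apply P σ x, h, P_inv_apply]

theorem map_tspace (σ : alternatingGroup (Fin r)) (J : Finset (Fin r)) :
    (tspace P J).map (P σ) ≤ tspace P (J.image (σ : Perm (Fin r))) := by
  rw [tspace, Submodule.map_iSup]
  refine iSup_le fun x => ?_
  rintro _ ⟨_, ⟨u, rfl⟩, rfl⟩
  obtain ⟨hx, hxJ⟩ := x.2
  have hab := hx.ne (show (0 : Fin 3) ≠ 1 by decide)
  have hai := hx.ne (show (0 : Fin 3) ≠ 2 by decide)
  have hbi := hx.ne (show (1 : Fin 3) ≠ 2 by decide)
  refine range_le_tspace P ((σ : Perm (Fin r)).injective.ne hab) ((σ : Perm (Fin r)).injective.ne hai)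
    ((σ : Perm (Fin r)).injective.ne hbi) (Finset.mem_image_of_mem _ (hxJ 0))
    (Finset.mem_image_of_mem _ (hxJ 1)) (Finset.mem_image_of_mem _ (hxJ 2)) ⟨P σ u, ?_⟩
  rw [← cyc_conj σ hab hai, map_mul, map_mul]
  simp only [LinearMap.sub_apply, Module.End.mul_apply, Module.End.one_apply, map_sub, P_inv_apply]

theorem tspace_eq_map (σ : alternatingGroup (Fin r)) (J : Finset (Fin r)) :
    tspace P (J.image (σ : Perm (Fin r))) = (tspace P J).map (P σ) := by
  refine le_antisymm (fun v hv => ?_) (map_tspace P σ J)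
  have h : P σ⁻¹ v ∈ tspace P J := by
    have := map_tspace P σ⁻¹ (J.image (σ : Perm (Fin r))) ⟨v, hv, rfl⟩
    have he : (J.image (σ : Perm (Fin r))).image ((σ⁻¹ : alternatingGroup (Fin r)) : Perm (Fin r)) = J := by
      rw [Finset.image_image]
      conv_rhs => rw [← Finset.image_id (s := J)]
      exact Finset.image_congr fun x _ => by simp
    rwa [he] at this
  refine ⟨_, h, ?_⟩
  have := P_inv_apply P σ⁻¹ v
  rwa [inv_inv] at this

/-- Equal cardinalities: some even permutation moves the pair. -/
theorem exists_move {J J' : Finset (Fin r)} {x x' : Fin r} (hJ : J.card + 3 ≤ r)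
    (hcard : J.card = J'.card) (hx : x ∉ J) (hx' : x' ∉ J') :
    ∃ σ : alternatingGroup (Fin r),
      J.image (σ : Perm (Fin r)) = J' ∧ (σ : Perm (Fin r)) x = x' := by
  obtain ⟨g, hg⟩ := exists_even_map (α := Fin r) (m := J.card + 1)
    (by rw [Fintype.card_fin]; omega)
    (Fin.cons x (fun i => (J.equivFin.symm i : Fin r)))
    (Fin.cons x' (fun i => ((J'.equivFinOfCardEq hcard.symm).symm i : Fin r)))
    (Fin.cons_injective_iff.2 ⟨fun ⟨i, hi⟩ => hx (hi ▸ (J.equivFin.symm i).2),
      Subtype.val_injective.comp J.equivFin.symm.injective⟩)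
    (Fin.cons_injective_iff.2
      ⟨fun ⟨i, hi⟩ => hx' (hi ▸ ((J'.equivFinOfCardEq hcard.symm).symm i).2),
      Subtype.val_injective.comp (J'.equivFinOfCardEq hcard.symm).symm.injective⟩)
  refine ⟨g, Finset.eq_of_subset_of_card_le (fun y hy => ?_)
    (by rw [Finset.card_image_of_injective _ (g : Perm (Fin r)).injective, hcard]), by simpa using hg 0⟩
  obtain ⟨z, hz, rfl⟩ := Finset.mem_image.1 hy
  have := hg (J.equivFin ⟨z, hz⟩).succ
  simp only [Fin.cons_succ, Equiv.symm_apply_apply] at this
  rw [this]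
  exact Subtype.coe_prop _

variable (hinj : Function.Injective P)
  (hirr : ∀ W : Submodule K V, (∀ σ, ∀ v ∈ W, P σ v ∈ W) → W = ⊥ ∨ W = ⊤)
  (hdisj : ∀ x : Fin 6 → Fin r, Function.Injective x →
    (P (cyc (x 0) (x 1) (x 2)) - 1) * (P (cyc (x 3) (x 4) (x 5)) - 1) = 0)

include hinj in
theorem cyc_sub_one_ne_zero {a b i : Fin r} (hab : a ≠ b) (hai : a ≠ i) (hbi : b ≠ i) :
    P (cyc a b i) - 1 ≠ 0 := by
  intro h
  rw [sub_eq_zero, ← map_one P] at h
  have h' := congrArg (fun g : alternatingGroup (Fin r) => (g : Perm (Fin r)) a) (hinj h)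
  simp [cyc_apply_a hab hai hbi] at h'
  exact hab h'.symm

include hdisj in
theorem tspace_le_ker {J : Finset (Fin r)} {s t u : Fin r} (hst : s ≠ t) (hsu : s ≠ u)
    (htu : t ≠ u) (hs : s ∉ J) (ht : t ∉ J) (hu : u ∉ J) :
    tspace P J ≤ LinearMap.ker (P (cyc s t u) - 1) := by
  refine iSup_le fun x => ?_
  rintro _ ⟨v, rfl⟩
  obtain ⟨hx, hxJ⟩ := x.2
  have h := hdisj ![s, t, u, x.1 0, x.1 1, x.1 2] (by
    intro a b hab
    have h01 := hx.ne (show (0 : Fin 3) ≠ 1 by decide)
    have h02 := hx.ne (show (0 : Fin 3) ≠ 2 by decide)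
    have h12 := hx.ne (show (1 : Fin 3) ≠ 2 by decide)
    have hsx : ∀ i, s ≠ x.1 i := fun i e => hs (e ▸ hxJ i)
    have htx : ∀ i, t ≠ x.1 i := fun i e => ht (e ▸ hxJ i)
    have hux : ∀ i, u ≠ x.1 i := fun i e => hu (e ▸ hxJ i)
    fin_cases a <;> fin_cases b <;>
      simp [hst, hsu, htu, hst.symm, hsu.symm, htu.symm, h01, h02, h12, h01.symm, h02.symm,
        h12.symm, hsx, htx, hux, fun i => (hsx i).symm, fun i => (htx i).symm,
        fun i => (hux i).symm] at hab ⊢)
  exact LinearMap.congr_fun h v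

theorem exists_three_outside {J : Finset (Fin r)} (hJ : J.card + 3 ≤ r) :
    ∃ s t u : Fin r, s ≠ t ∧ s ≠ u ∧ t ≠ u ∧ s ∉ J ∧ t ∉ J ∧ u ∉ J := by
  obtain ⟨T, hT, hTc⟩ := Finset.exists_subset_card_eq (s := Jᶜ) (n := 3)
    (by rw [Finset.card_compl, Fintype.card_fin]; omega)
  obtain ⟨s, t, u, hst, hsu, htu, rfl⟩ := Finset.card_eq_three.1 hTc
  exact ⟨s, t, u, hst, hsu, htu, Finset.mem_compl.1 (hT (by simp)),
    Finset.mem_compl.1 (hT (by simp)), Finset.mem_compl.1 (hT (by simp))⟩

include hinj hirr hdisj in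
/-- The spaces grow strictly. -/
theorem tspace_ne {J : Finset (Fin r)} {x : Fin r} (h3 : 3 ≤ J.card) (hJ : J.card + 3 ≤ r)
    (hx : x ∉ J) : tspace P J ≠ tspace P (insert x J) := by
  intro heq
  have hall : ∀ J' x', J'.card = J.card → x' ∉ J' →
      tspace P J' = tspace P (insert x' J') := by
    intro J' x' hc hx'
    obtain ⟨σ, hσ, hσx⟩ := exists_move hJ hc.symm hx hx'
    rw [← hσ, ← hσx, ← Finset.image_insert, tspace_eq_map, tspace_eq_map, heq]
  have hstep : ∀ (m : ℕ) (J' J'' : Finset (Fin r)), J'.card = J.card → J''.card = J.card →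
      (J' \ J'').card ≤ m → tspace P J' = tspace P J'' := by
    intro m
    induction m with
    | zero =>
      intro J' J'' h1 h2 hm
      have hsub : J' ⊆ J'' := by
        rw [Nat.le_zero, Finset.card_eq_zero, Finset.sdiff_eq_empty_iff_subset] at hm
        exact hm
      rw [Finset.eq_of_subset_of_card_le hsub (by omega)]
    | succ m ih =>
      intro J' J'' h1 h2 hm
      by_cases hsub : J' ⊆ J''
      · rw [Finset.eq_of_subset_of_card_le hsub (by omega)]
      obtain ⟨y, hy1, hy2⟩ := Finset.not_subset.1 hsub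
      obtain ⟨z, hz2, hz1⟩ := Finset.not_subset.1
        (fun h : J'' ⊆ J' => hsub (Finset.eq_of_subset_of_card_le h (by omega)).ge)
      have hzy : z ≠ y := fun e => hz1 (e ▸ hy1)
      have hc : (insert z (J'.erase y)).card = J.card := by
        rw [Finset.card_insert_of_notMem (fun h => hz1 (Finset.mem_of_mem_erase h)),
          Finset.card_erase_of_mem hy1]
        omega
      have hyz : y ∉ insert z (J'.erase y) := by simp [Ne.symm hzy]
      have he : insert y (insert z (J'.erase y)) = insert z J' := by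
        rw [Finset.insert_comm, Finset.insert_erase hy1]
      rw [hall J' z h1 hz1, ← he, ← hall _ y hc hyz]
      refine ih _ J'' hc h2 ?_
      have hle : insert z (J'.erase y) \ J'' ⊆ (J' \ J'').erase y := by
        intro w hw
        simp only [Finset.mem_sdiff, Finset.mem_insert, Finset.mem_erase] at hw ⊢
        rcases hw.1 with rfl | h
        · exact absurd hz2 hw.2
        · exact ⟨h.1, h.2, hw.2⟩
      have h' := Finset.card_le_card hle
      rw [Finset.card_erase_of_mem (Finset.mem_sdiff.2 ⟨hy1, hy2⟩)] at h'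
      omega
  obtain ⟨T, hT, hTc⟩ := Finset.exists_subset_card_eq h3
  obtain ⟨a, b, i, hab, hai, hbi, rfl⟩ := Finset.card_eq_three.1 hTc
  have hle := range_le_tspace P hab hai hbi (hT (by simp)) (hT (by simp)) (hT (by simp))
  rcases hirr (tspace P J) (fun σ v hv => by
    rw [hstep _ J (J.image (σ : Perm (Fin r))) rfl
      (Finset.card_image_of_injective _ (σ : Perm (Fin r)).injective) le_rfl, tspace_eq_map]
    exact ⟨v, hv, rfl⟩) with h | h
  · rw [h, le_bot_iff, LinearMap.range_eq_bot] at hle
    exact cyc_sub_one_ne_zero P hinj hab hai hbi hle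
  · obtain ⟨s, t, u, hst, hsu, htu, hs, ht, hu⟩ := exists_three_outside hJ
    have hk := tspace_le_ker P hdisj hst hsu htu hs ht hu
    rw [h, top_le_iff, LinearMap.ker_eq_top] at hk
    exact cyc_sub_one_ne_zero P hinj hst hsu htu hk

include hinj hirr hdisj in
theorem tspace_lt {J : Finset (Fin r)} {x : Fin r} (h3 : 3 ≤ J.card) (hJ : J.card + 3 ≤ r)
    (hx : x ∉ J) : tspace P J < tspace P (insert x J) :=
  lt_of_le_of_ne (tspace_mono P (Finset.subset_insert _ _)) (tspace_ne P hinj hirr hdisj h3 hJ hx)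

variable [FiniteDimensional K V]

include hinj hirr hdisj in
theorem finrank_tspace_add_le (h9 : 9 ≤ r) : ∀ (m : ℕ) {J : Finset (Fin r)}, 3 ≤ J.card →
    J.card + m + 3 = r → finrank K (tspace P J) + m + finrank K (LinearMap.range
      (P (cyc (⟨0, by omega⟩ : Fin r) ⟨1, by omega⟩ ⟨2, by omega⟩) - 1)) ≤ finrank K V
  | 0, J, h3, hc => by
    obtain ⟨s, t, u, hst, hsu, htu, hs, ht, hu⟩ := exists_three_outside (J := J) (by omega)
    have hk := Submodule.finrank_mono (tspace_le_ker P hdisj hst hsu htu hs ht hu)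
    have hn := LinearMap.finrank_range_add_finrank_ker (P (cyc s t u) - 1)
    set a : Fin r := ⟨0, by omega⟩
    set b : Fin r := ⟨1, by omega⟩
    set i : Fin r := ⟨2, by omega⟩
    have hab : a ≠ b := by simp [a, b]
    have hai : a ≠ i := by simp [a, i]
    have hbi : b ≠ i := by simp [b, i]
    obtain ⟨g, hg⟩ := exists_even_map (α := Fin r) (m := 3) (by rw [Fintype.card_fin]; omega)
      ![a, b, i] ![s, t, u] (triple_inj hab hai hbi) (triple_inj hst hsu htu)
    have g0 := hg 0; have g1 := hg 1; have g2 := hg 2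
    simp only [Matrix.cons_val] at g0 g1 g2
    have hr : (LinearMap.range (P (cyc a b i) - 1)).map (P g) ≤
        LinearMap.range (P (cyc s t u) - 1) := by
      rintro _ ⟨_, ⟨v, rfl⟩, rfl⟩
      refine ⟨P g v, ?_⟩
      rw [← g0, ← g1, ← g2, ← cyc_conj g hab hai, map_mul, map_mul]
      simp only [LinearMap.sub_apply, Module.End.mul_apply, Module.End.one_apply, map_sub,
        P_inv_apply]
    have he := (Submodule.equivMapOfInjective (P g) (P_injective_apply P g)
      (LinearMap.range (P (cyc a b i) - 1))).finrank_eq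
    have := Submodule.finrank_mono hr
    omega
  | m + 1, J, h3, hc => by
    obtain ⟨x, hx⟩ : ∃ x, x ∉ J := by
      by_contra h
      push Not at h
      have := Finset.card_le_card (fun y (_ : y ∈ Finset.univ) => h y)
      rw [Finset.card_univ, Fintype.card_fin] at this
      omega
    have hc' : (insert x J).card = J.card + 1 := Finset.card_insert_of_notMem hx
    have ih := finrank_tspace_add_le h9 m (J := insert x J) (by omega) (by omega)
    have := Submodule.finrank_lt_finrank_of_lt (tspace_lt P hinj hirr hdisj h3 (by omega) hx)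
    omega

include hinj hirr hdisj in
/-- The bound. -/
theorem chain_bound {p : ℕ} [CharP K p] (hr : 9 ≤ r)
    (hd : ∀ a b i : Fin r, a ≠ b → a ≠ i → b ≠ i →
      2 ≤ finrank K (LinearMap.range (P (cyc a b i) - 1))) :
    r - 1 - (if p ∣ r then 1 else 0) ≤ finrank K V := by
  classical
  set a₀ : Fin r := ⟨0, by omega⟩
  set b₀ : Fin r := ⟨1, by omega⟩
  set c₀ : Fin r := ⟨2, by omega⟩
  have hd0 := hd a₀ b₀ c₀ (by simp [a₀, b₀]) (by simp [a₀, c₀]) (by simp [b₀, c₀])
  have hd3 : ∀ J : Finset (Fin r), J.card = 3 → 2 ≤ finrank K (tspace P J) := by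
    intro J hJ
    obtain ⟨a, b, i, hab, hai, hbi, rfl⟩ := Finset.card_eq_three.1 hJ
    exact (hd a b i hab hai hbi).trans (Submodule.finrank_mono
      (range_le_tspace P hab hai hbi (by simp) (by simp) (by simp)))
  have hbig : r - 2 ≤ finrank K V := by
    have hJ : ({a₀, b₀, c₀} : Finset (Fin r)).card = 3 :=
      Finset.card_eq_three.2 ⟨a₀, b₀, c₀, by simp [a₀, b₀], by simp [a₀, c₀], by simp [b₀, c₀], rfl⟩
    have : finrank K (tspace P {a₀, b₀, c₀}) + (r - 6) +
        finrank K (LinearMap.range (P (cyc a₀ b₀ c₀) - 1)) ≤ finrank K V :=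
      finrank_tspace_add_le P hinj hirr hdisj hr (r - 6) (by omega) (by omega)
    have := hd3 _ hJ
    omega
  by_contra hlt
  push Not at hlt
  have hpr : ¬ p ∣ r := fun h => by rw [if_pos h] at hlt; omega
  rw [if_neg hpr] at hlt
  have hn : finrank K V + 2 = r := by omega
  -- exact dimensions
  have hup : ∀ J : Finset (Fin r), 3 ≤ J.card → J.card + 3 ≤ r →
      finrank K (tspace P J) + 1 ≤ J.card := by
    intro J h3 hJ
    have h' : finrank K (tspace P J) + (r - 3 - J.card) +
        finrank K (LinearMap.range (P (cyc a₀ b₀ c₀) - 1)) ≤ finrank K V :=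
      finrank_tspace_add_le P hinj hirr hdisj hr (r - 3 - J.card) h3 (by omega)
    omega
  have hlow : ∀ J : Finset (Fin r), J.card = 4 → 3 ≤ finrank K (tspace P J) := by
    intro J hJ
    obtain ⟨x, hx⟩ := Finset.card_pos.1 (show 0 < J.card by omega)
    have hc : (J.erase x).card = 3 := by rw [Finset.card_erase_of_mem hx, hJ]
    have h := Submodule.finrank_lt_finrank_of_lt (tspace_lt P hinj hirr hdisj
      (J := J.erase x) (x := x) (by omega) (by omega) (Finset.notMem_erase _ _))
    rw [Finset.insert_erase hx] at h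
    have := hd3 _ hc
    omega
  have hrange : ∀ a b i : Fin r, a ≠ b → a ≠ i → b ≠ i →
      tspace P {a, b, i} = LinearMap.range (P (cyc a b i) - 1) := by
    intro a b i hab hai hbi
    have hJ : ({a, b, i} : Finset (Fin r)).card = 3 :=
      Finset.card_eq_three.2 ⟨a, b, i, hab, hai, hbi, rfl⟩
    refine (Submodule.eq_of_le_of_finrank_le
      (range_le_tspace P hab hai hbi (by simp) (by simp) (by simp)) ?_).symm
    have := hup _ hJ.ge (by omega)
    have := hd a b i hab hai hbi
    omega
  -- the lines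
  set L : Fin r → Fin r → Fin r → Fin r → Submodule K V := fun a b c d =>
    tspace P {a, b, c} ⊓ tspace P {a, b, d}
  have hcard3 : ∀ {a b c : Fin r}, a ≠ b → a ≠ c → b ≠ c →
      ({a, b, c} : Finset (Fin r)).card = 3 :=
    fun hab hac hbc => Finset.card_eq_three.2 ⟨_, _, _, hab, hac, hbc, rfl⟩
  have hcard4 : ∀ {a b c d : Fin r}, a ≠ b → a ≠ c → a ≠ d → b ≠ c → b ≠ d → c ≠ d →
      ({a, b, c, d} : Finset (Fin r)).card = 4 := fun hab hac had hbc hbd hcd =>
    Finset.card_eq_four.2 ⟨_, _, _, _, hab, hac, had, hbc, hbd, hcd, rfl⟩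
  have hsup : ∀ {a b c d : Fin r}, a ≠ b → a ≠ c → a ≠ d → b ≠ c → b ≠ d → c ≠ d →
      tspace P {a, b, c} ⊔ tspace P {a, b, d} = tspace P {a, b, c, d} := by
    intro a b c d hab hac had hbc hbd hcd
    have hle : tspace P {a, b, c} ⊔ tspace P {a, b, d} ≤ tspace P {a, b, c, d} :=
      sup_le (tspace_mono P (by intro w; simp; tauto)) (tspace_mono P (by intro w; simp; tauto))
    refine Submodule.eq_of_le_of_finrank_le hle ?_
    have h4 := hup {a, b, c, d} (by rw [hcard4 hab hac had hbc hbd hcd]; omega)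
      (by rw [hcard4 hab hac had hbc hbd hcd]; omega)
    rw [hcard4 hab hac had hbc hbd hcd] at h4
    by_contra h
    push Not at h
    have h2 : tspace P {a, b, c} = tspace P {a, b, c} ⊔ tspace P {a, b, d} :=
      Submodule.eq_of_le_of_finrank_le le_sup_left (by
        have := hd3 _ (hcard3 hab hac hbc); omega)
    have h2' : tspace P {a, b, d} = tspace P {a, b, c} ⊔ tspace P {a, b, d} :=
      Submodule.eq_of_le_of_finrank_le le_sup_right (by
        have := hd3 _ (hcard3 hab had hbd); omega)
    have heq : tspace P {a, b, c} = tspace P {a, b, d} := h2.trans h2'.symm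
    -- adjoining a point to a triple then gives nothing new
    have hall : tspace P {a, b, c, d} = tspace P {a, b, c} := by
      refine le_antisymm ?_ (tspace_mono P (by intro w; simp; tauto))
      refine iSup_le fun x => ?_
      obtain ⟨hx, hxJ⟩ := x.2
      have hmove : ∀ T : Finset (Fin r), T.card = 3 → T ⊆ {a, b, c, d} →
          tspace P T = tspace P {a, b, c} := by
        intro T hT hTs
        have key : ∀ u v w z : Fin r, u ≠ v → u ≠ w → u ≠ z → v ≠ w → v ≠ z → w ≠ z →
            tspace P {u, v, w} = tspace P {u, v, z} := by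
          intro u v w z huv huw huz hvw hvz hwz
          obtain ⟨g, hg⟩ := exists_even_map (α := Fin r) (m := 4) (by rw [Fintype.card_fin]; omega)
            ![a, b, c, d] ![u, v, w, z] (by
              intro s t hst
              fin_cases s <;> fin_cases t <;> simp [hab, hac, had, hbc, hbd, hcd, hab.symm,
                hac.symm, had.symm, hbc.symm, hbd.symm, hcd.symm] at hst ⊢) (by
              intro s t hst
              fin_cases s <;> fin_cases t <;> simp [huv, huw, huz, hvw, hvz, hwz, huv.symm,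
                huw.symm, huz.symm, hvw.symm, hvz.symm, hwz.symm] at hst ⊢)
          have g0 := hg 0; have g1 := hg 1; have g2 := hg 2; have g3 := hg 3
          simp only [Matrix.cons_val] at g0 g1 g2 g3
          have e1 := tspace_eq_map P g {a, b, c}
          have e2 := tspace_eq_map P g {a, b, d}
          simp only [Finset.image_insert, Finset.image_singleton, g0, g1, g2, g3] at e1 e2
          rw [e1, e2, heq]
        obtain ⟨q, hq, hqT⟩ : ∃ q, q ∈ ({a, b, c, d} : Finset (Fin r)) ∧ q ∉ T := by
          by_contra h'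
          push Not at h'
          have := Finset.card_le_card (fun q hq => h' q hq : ({a, b, c, d} : Finset (Fin r)) ⊆ T)
          rw [hcard4 hab hac had hbc hbd hcd] at this
          omega
        have hTe : T = ({a, b, c, d} : Finset (Fin r)).erase q :=
          Finset.eq_of_subset_of_card_le (fun w hw => Finset.mem_erase.2
            ⟨fun e => hqT (e ▸ hw), hTs hw⟩)
            (by rw [Finset.card_erase_of_mem hq, hcard4 hab hac had hbc hbd hcd, hT])
        subst hTe
        simp only [Finset.mem_insert, Finset.mem_singleton] at hq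
        rcases hq with rfl | rfl | rfl | rfl
        · calc tspace P (({q, b, c, d} : Finset (Fin r)).erase q) = tspace P {b, c, d} := by
                congr 1; simp [hab, hac, had]
            _ = tspace P {b, c, q} := key b c d q hbc hbd hab.symm hcd hac.symm had.symm
            _ = tspace P {q, b, c} := by congr 1; ext w; simp; tauto
        · calc tspace P (({a, q, c, d} : Finset (Fin r)).erase q) = tspace P {a, c, d} := by
                congr 1; ext w; simp only [Finset.mem_erase, Finset.mem_insert, Finset.mem_singleton]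
                constructor
                · rintro ⟨h1, h2 | h2 | h2 | h2⟩ <;> first | exact absurd h2 h1 | simp [h2]
                · rintro (rfl | rfl | rfl) <;> simp [hab, hbc.symm, hbd.symm]
            _ = tspace P {a, c, q} := key a c d q hac had hab hcd hbc.symm hbd.symm
            _ = tspace P {a, q, c} := by congr 1; ext w; simp; tauto
        · calc tspace P (({a, b, q, d} : Finset (Fin r)).erase q) = tspace P {a, b, d} := by
                congr 1; ext w; simp only [Finset.mem_erase, Finset.mem_insert, Finset.mem_singleton]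
                constructor
                · rintro ⟨h1, h2 | h2 | h2 | h2⟩ <;> first | exact absurd h2 h1 | simp [h2]
                · rintro (rfl | rfl | rfl) <;> simp [hac, hbc, hcd.symm]
            _ = tspace P {a, b, q} := heq.symm
        · congr 1; ext w; simp only [Finset.mem_erase, Finset.mem_insert, Finset.mem_singleton]
          constructor
          · rintro ⟨h1, h2 | h2 | h2 | h2⟩ <;> first | exact absurd h2 h1 | simp [h2]
          · rintro (rfl | rfl | rfl) <;> simp [had, hbd, hcd]
      have hT : (Finset.univ.image x.1).card = 3 := by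
        rw [Finset.card_image_of_injective _ hx, Finset.card_fin]
      rw [← hmove _ hT (fun w hw => by
        obtain ⟨i, -, rfl⟩ := Finset.mem_image.1 hw; exact hxJ i)]
      exact range_le_tspace P (hx.ne (by decide)) (hx.ne (by decide)) (hx.ne (by decide))
        (Finset.mem_image_of_mem _ (Finset.mem_univ _)) (Finset.mem_image_of_mem _ (Finset.mem_univ _))
        (Finset.mem_image_of_mem _ (Finset.mem_univ _))
    have hlow4 := hlow _ (hcard4 hab hac had hbc hbd hcd)
    have hup3 := hup _ (hcard3 hab hac hbc).ge (by rw [hcard3 hab hac hbc]; omega)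
    rw [hcard3 hab hac hbc] at hup3
    rw [hall] at hlow4
    omega
  have hL1 : ∀ {a b c d : Fin r}, a ≠ b → a ≠ c → a ≠ d → b ≠ c → b ≠ d → c ≠ d →
      finrank K (L a b c d) = 1 := by
    intro a b c d hab hac had hbc hbd hcd
    have h := Submodule.finrank_sup_add_finrank_inf_eq (tspace P {a, b, c}) (tspace P {a, b, d})
    rw [hsup hab hac had hbc hbd hcd] at h
    have h1 := hup _ (hcard3 hab hac hbc).ge (by rw [hcard3 hab hac hbc]; omega)
    have h2 := hup _ (hcard3 hab had hbd).ge (by rw [hcard3 hab had hbd]; omega)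
    have h3 := hd3 _ (hcard3 hab hac hbc)
    have h4 := hd3 _ (hcard3 hab had hbd)
    have h5 := hlow _ (hcard4 hab hac had hbc hbd hcd)
    have h6 := hup {a, b, c, d} (by rw [hcard4 hab hac had hbc hbd hcd]; omega)
      (by rw [hcard4 hab hac had hbc hbd hcd]; omega)
    rw [hcard3 hab hac hbc] at h1
    rw [hcard3 hab had hbd] at h2
    rw [hcard4 hab hac had hbc hbd hcd] at h6
    show finrank K ↥(tspace P {a, b, c} ⊓ tspace P {a, b, d}) = 1
    omega
  have hindep : ∀ {a b c d e : Fin r}, a ≠ b → a ≠ c → a ≠ d → a ≠ e → b ≠ c → b ≠ d → b ≠ e →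
      c ≠ d → c ≠ e → d ≠ e → L a b c d = L a b c e := by
    intro a b c d e hab hac had hae hbc hbd hbe hcd hce hde
    by_contra hne
    have h1 := hL1 hab hac had hbc hbd hcd
    have h2 := hL1 hab hac hae hbc hbe hce
    have hle : L a b c d ⊔ L a b c e ≤ tspace P {a, b, c} := sup_le inf_le_left inf_le_left
    have hlt' : L a b c d < L a b c d ⊔ L a b c e :=
      lt_of_le_of_ne le_sup_left fun h => hne
        (Submodule.eq_of_le_of_finrank_le (le_sup_right.trans h.ge) (by omega)).symm
    have hlt'' := Submodule.finrank_lt_finrank_of_lt hlt'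
    have h3 := hup _ (hcard3 hab hac hbc).ge (by rw [hcard3 hab hac hbc]; omega)
    rw [hcard3 hab hac hbc] at h3
    have heq := Submodule.eq_of_le_of_finrank_le hle (by omega)
    have h5 : tspace P {a, b, c} ≤ tspace P {a, b, d, e} := by
      rw [← heq, ← hsup hab had hae hbd hbe hde]
      exact sup_le_sup inf_le_right inf_le_right
    have h6 : tspace P {a, b, c, d} ≤ tspace P {a, b, d, e} := by
      rw [← hsup hab hac had hbc hbd hcd]
      exact sup_le h5 (tspace_mono P (by intro w; simp; tauto))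
    -- then five points span no more than four
    have h7 : tspace P {a, b, d, e, c} ≤ tspace P {a, b, d, e} := by
      have h8 : tspace P {a, b, c, d} = tspace P {a, b, d, e} := by
        refine Submodule.eq_of_le_of_finrank_le h6 ?_
        have := hlow _ (hcard4 hab hac had hbc hbd hcd)
        have := hup {a, b, d, e} (by rw [hcard4 hab had hae hbd hbe hde]; omega)
          (by rw [hcard4 hab had hae hbd hbe hde]; omega)
        rw [hcard4 hab had hae hbd hbe hde] at this
        omega
      have key : ∀ u v w z y : Fin r, u ≠ v → u ≠ w → u ≠ z → u ≠ y → v ≠ w → v ≠ z → v ≠ y →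
          w ≠ z → w ≠ y → z ≠ y → tspace P {u, v, w, z} = tspace P {u, v, z, y} := by
        intro u v w z y h1 h2 h3 h4 h5 h6 h7 h9 h10 h11
        obtain ⟨g, hg⟩ := exists_even_map (α := Fin r) (m := 5) (by rw [Fintype.card_fin]; omega)
          ![a, b, c, d, e] ![u, v, w, z, y] (by
            intro s t hst
            fin_cases s <;> fin_cases t <;> simp [hab, hac, had, hae, hbc, hbd, hbe, hcd, hce, hde,
              hab.symm, hac.symm, had.symm, hae.symm, hbc.symm, hbd.symm, hbe.symm, hcd.symm,
              hce.symm, hde.symm] at hst ⊢) (by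
            intro s t hst
            fin_cases s <;> fin_cases t <;> simp [h1, h2, h3, h4, h5, h6, h7, h9, h10, h11,
              h1.symm, h2.symm, h3.symm, h4.symm, h5.symm, h6.symm, h7.symm, h9.symm, h10.symm,
              h11.symm] at hst ⊢)
        have g0 := hg 0; have g1 := hg 1; have g2 := hg 2; have g3 := hg 3; have g4 := hg 4
        simp only [Matrix.cons_val] at g0 g1 g2 g3 g4
        have e1 := tspace_eq_map P g {a, b, c, d}
        have e2 := tspace_eq_map P g {a, b, d, e}
        simp only [Finset.image_insert, Finset.image_singleton, g0, g1, g2, g3, g4] at e1 e2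
        rw [e1, e2, h8]
      refine iSup_le fun x => ?_
      obtain ⟨hx, hxJ⟩ := x.2
      obtain ⟨q, hq, hqT⟩ : ∃ q ∈ ({a, b, d, e} : Finset (Fin r)), q ∉ Finset.univ.image x.1 := by
        by_contra h'
        push Not at h'
        have := Finset.card_le_card (fun q hq => h' q hq :
          ({a, b, d, e} : Finset (Fin r)) ⊆ Finset.univ.image x.1)
        rw [hcard4 hab had hae hbd hbe hde, Finset.card_image_of_injective _ hx,
          Finset.card_fin] at this
        omega
      have hsub : LinearMap.range (P (cyc (x.1 0) (x.1 1) (x.1 2)) - 1) ≤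
          tspace P (({a, b, d, e, c} : Finset (Fin r)).erase q) := by
        refine range_le_tspace P (hx.ne (by decide)) (hx.ne (by decide)) (hx.ne (by decide))
          ?_ ?_ ?_ <;>
        exact Finset.mem_erase.2 ⟨fun e' => hqT (e' ▸ Finset.mem_image_of_mem _ (Finset.mem_univ _)),
          hxJ _⟩
      refine hsub.trans (le_of_eq ?_)
      simp only [Finset.mem_insert, Finset.mem_singleton] at hq
      rcases hq with rfl | rfl | rfl | rfl
      · have hs : ({q, b, d, e, c} : Finset (Fin r)).erase q = {b, d, c, e} := by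
          ext w; simp only [Finset.mem_erase, Finset.mem_insert, Finset.mem_singleton]
          constructor
          · rintro ⟨h1, h2 | h2 | h2 | h2 | h2⟩ <;> first | exact absurd h2 h1 | simp [h2]
          · rintro (rfl | rfl | rfl | rfl) <;> simp [hab.symm, had.symm, hac.symm, hae.symm]
        rw [hs, key b d c e q hbd hbc hbe hab.symm hcd.symm hde had.symm hce hac.symm hae.symm]
        congr 1; ext w; simp; tauto
      · have hs : ({a, q, d, e, c} : Finset (Fin r)).erase q = {a, d, c, e} := by
          ext w; simp only [Finset.mem_erase, Finset.mem_insert, Finset.mem_singleton]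
          constructor
          · rintro ⟨h1, h2 | h2 | h2 | h2 | h2⟩ <;> first | exact absurd h2 h1 | simp [h2]
          · rintro (rfl | rfl | rfl | rfl) <;> simp [hab, hbd.symm, hbc.symm, hbe.symm]
        rw [hs, key a d c e q had hac hae hab hcd.symm hde hbd.symm hce hbc.symm hbe.symm]
        congr 1; ext w; simp; tauto
      · have hs : ({a, b, q, e, c} : Finset (Fin r)).erase q = {a, b, c, e} := by
          ext w; simp only [Finset.mem_erase, Finset.mem_insert, Finset.mem_singleton]
          constructor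
          · rintro ⟨h1, h2 | h2 | h2 | h2 | h2⟩ <;> first | exact absurd h2 h1 | simp [h2]
          · rintro (rfl | rfl | rfl | rfl) <;> simp [had, hbd, hde.symm, hcd]
        rw [hs, key a b c e q hab hac hae had hbc hbe hbd hce hcd hde.symm]
        congr 1; ext w; simp; tauto
      · have hs : ({a, b, d, q, c} : Finset (Fin r)).erase q = {a, b, c, d} := by
          ext w; simp only [Finset.mem_erase, Finset.mem_insert, Finset.mem_singleton]
          constructor
          · rintro ⟨h1, h2 | h2 | h2 | h2 | h2⟩ <;> first | exact absurd h2 h1 | simp [h2]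
          · rintro (rfl | rfl | rfl | rfl) <;> simp [hae, hbe, hde, hce]
        rw [hs, key a b c d q hab hac had hae hbc hbd hbe hcd hce hde]
    have h9 : tspace P {a, b, d, e} < tspace P (insert c {a, b, d, e}) :=
      tspace_lt P hinj hirr hdisj (by rw [hcard4 hab had hae hbd hbe hde]; omega)
        (by rw [hcard4 hab had hae hbd hbe hde]; omega)
        (by simp [hac.symm, hbc.symm, hcd, hce])
    have h10 : (insert c {a, b, d, e} : Finset (Fin r)) = {a, b, d, e, c} := by ext w; simp; tauto
    rw [h10] at h9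
    exact absurd h7 h9.not_ge
  -- the base line
  have hc : ∀ {a b c d : Fin r}, L a b c d = L a b d c := fun {a b c d} => inf_comm _ _
  set c₁ : Fin r := ⟨3, by omega⟩
  have n01 : a₀ ≠ b₀ := by simp [a₀, b₀]
  have n0c : a₀ ≠ c₀ := by simp [a₀, c₀]
  have n0d : a₀ ≠ c₁ := by simp [a₀, c₁]
  have n1c : b₀ ≠ c₀ := by simp [b₀, c₀]
  have n1d : b₀ ≠ c₁ := by simp [b₀, c₁]
  have ncd : c₀ ≠ c₁ := by simp [c₀, c₁]
  obtain ⟨e₀, he₀, hspan⟩ : ∃ e₀ : V, e₀ ≠ 0 ∧ L a₀ b₀ c₀ c₁ = Submodule.span K {e₀} := by
    have h1 := hL1 n01 n0c n0d n1c n1d ncd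
    have hne : L a₀ b₀ c₀ c₁ ≠ ⊥ := fun h => by rw [h, finrank_bot] at h1; omega
    obtain ⟨e, he, he0⟩ := (Submodule.ne_bot_iff _).1 hne
    refine ⟨e, he0, (Submodule.eq_of_le_of_finrank_le
      ((Submodule.span_singleton_le_iff_mem _ _).2 he) ?_).symm⟩
    rw [finrank_span_singleton he0, h1]
  have hbase : ∀ c, c ≠ a₀ → c ≠ b₀ → e₀ ∈ tspace P {a₀, b₀, c} := by
    intro c h1 h2
    have he : e₀ ∈ L a₀ b₀ c₀ c₁ := hspan ▸ Submodule.mem_span_singleton_self _
    by_cases h3 : c = c₀
    · subst h3; exact he.1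
    by_cases h4 : c = c₁
    · subst h4; exact he.2
    rw [hindep n01 n0c n0d h1.symm n1c n1d h2.symm ncd (Ne.symm h3) (Ne.symm h4)] at he
    exact he.2
  have hmul : ∀ (σ τ : alternatingGroup (Fin r)) (v : V), P (σ * τ) v = P σ (P τ v) :=
    fun σ τ v => by rw [map_mul, Module.End.mul_apply]
  -- the stabiliser fixes the base vector
  have hstabline : ∀ σ : alternatingGroup (Fin r), (σ : Perm (Fin r)) a₀ = a₀ →
      (σ : Perm (Fin r)) b₀ = b₀ → ∃ c : K, P σ e₀ = c • e₀ := by
    intro σ h1 h2
    have h3 : P σ e₀ ∈ L a₀ b₀ c₀ c₁ := by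
      refine ⟨?_, ?_⟩
      · have := map_tspace P σ {a₀, b₀, (σ : Perm (Fin r))⁻¹ c₀} ⟨e₀, hbase _ (fun h => n0c (by
            rw [← h1, ← h, ← Perm.mul_apply, mul_inv_cancel, Perm.one_apply]))
          (fun h => n1c (by rw [← h2, ← h, ← Perm.mul_apply, mul_inv_cancel, Perm.one_apply])), rfl⟩
        simpa [Finset.image_insert, h1, h2] using this
      · have := map_tspace P σ {a₀, b₀, (σ : Perm (Fin r))⁻¹ c₁} ⟨e₀, hbase _ (fun h => n0d (by
            rw [← h1, ← h, ← Perm.mul_apply, mul_inv_cancel, Perm.one_apply]))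
          (fun h => n1d (by rw [← h2, ← h, ← Perm.mul_apply, mul_inv_cancel, Perm.one_apply])), rfl⟩
        simpa [Finset.image_insert, h1, h2] using this
    rw [hspan] at h3
    obtain ⟨c, hc'⟩ := Submodule.mem_span_singleton.1 h3
    exact ⟨c, hc'.symm⟩
  have hcycfix : ∀ x y z : Fin r, x ≠ y → x ≠ z → y ≠ z → x ≠ a₀ → x ≠ b₀ → y ≠ a₀ → y ≠ b₀ →
      z ≠ a₀ → z ≠ b₀ → P (cyc x y z) e₀ = e₀ := by
    intro x y z hxy hxz hyz hxa hxb hya hyb hza hzb
    obtain ⟨s, hs⟩ := hstabline (cyc x y z)
      (cyc_apply_of_ne hxy hxz hxa.symm hya.symm hza.symm)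
      (cyc_apply_of_ne hxy hxz hxb.symm hyb.symm hzb.symm)
    obtain ⟨g, hg⟩ := exists_even_map (α := Fin r) (m := 5) (by rw [Fintype.card_fin]; omega)
      ![a₀, b₀, x, y, z] ![a₀, b₀, y, x, z] (by
        intro i j hij
        fin_cases i <;> fin_cases j <;> simp [n01, hxy, hxz, hyz, hxa, hxb, hya, hyb, hza, hzb,
          n01.symm, hxy.symm, hxz.symm, hyz.symm, hxa.symm, hxb.symm, hya.symm, hyb.symm, hza.symm,
          hzb.symm] at hij ⊢) (by
        intro i j hij
        fin_cases i <;> fin_cases j <;> simp [n01, hxy, hxz, hyz, hxa, hxb, hya, hyb, hza, hzb,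
          n01.symm, hxy.symm, hxz.symm, hyz.symm, hxa.symm, hxb.symm, hya.symm, hyb.symm, hza.symm,
          hzb.symm] at hij ⊢)
    have g0 := hg 0; have g1 := hg 1; have g2 := hg 2; have g3 := hg 3; have g4 := hg 4
    simp only [Matrix.cons_val] at g0 g1 g2 g3 g4
    obtain ⟨t, ht⟩ := hstabline g g0 g1
    have ht0 : t ≠ 0 := fun h => he₀ (by
      have := P_injective_apply P g (a₁ := e₀) (a₂ := 0) (by rw [ht, h, zero_smul, map_zero])
      exact this)
    have hswap : cyc y x z = cyc x y z ^ 2 := by
      refine Subtype.ext (Equiv.ext fun q => ?_)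
      rw [pow_two, Subgroup.coe_mul, Perm.mul_apply]
      by_cases q1 : q = x
      · subst q1
        rw [cyc_apply_b hxy.symm hyz, cyc_apply_a hxy hxz hyz, cyc_apply_b hxy hxz]
      by_cases q2 : q = y
      · subst q2
        rw [cyc_apply_a hxy.symm hyz hxz, cyc_apply_b hxy hxz, cyc_apply_i hxy hxz hyz]
      by_cases q3 : q = z
      · subst q3
        rw [cyc_apply_i hxy.symm hyz hxz, cyc_apply_i hxy hxz hyz, cyc_apply_a hxy hxz hyz]
      rw [cyc_apply_of_ne hxy.symm hyz q2 q1 q3, cyc_apply_of_ne hxy hxz q1 q2 q3,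
        cyc_apply_of_ne hxy hxz q1 q2 q3]
    have hconj : g * cyc x y z = cyc x y z ^ 2 * g := by
      rw [← mul_inv_eq_iff_eq_mul, cyc_conj g hxy hxz, g2, g3, g4, hswap]
    have h := congrArg (fun q => P q e₀) hconj
    simp only [hmul, pow_two, hs, ht, map_smul, smul_smul] at h
    have h3 : P (cyc x y z ^ 3) e₀ = e₀ := by
      rw [cyc_cube hxy hxz hyz, map_one, Module.End.one_apply]
    rw [pow_succ, pow_two, hmul, hmul, hs, map_smul, hs, smul_smul, map_smul, hs, smul_smul] at h3
    have h4 : (s * t - t * s * s) • e₀ = 0 := by rw [sub_smul, h, sub_self]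
    have h5 : (s * s * s - 1) • e₀ = 0 := by rw [sub_smul, one_smul, h3, sub_self]
    have h4' := sub_eq_zero.1 ((smul_eq_zero.1 h4).resolve_right he₀)
    have h5' := sub_eq_zero.1 ((smul_eq_zero.1 h5).resolve_right he₀)
    have hs0 : s ≠ 0 := fun h => by simp [h] at h5'
    have hs1 : s = 1 := by
      have : s * t * 1 = s * t * s := by rw [mul_one]; exact h4'.trans (by ring)
      exact (mul_left_cancel₀ (mul_ne_zero hs0 ht0) this).symm
    rw [hs, hs1, one_smul]
  -- the whole stabiliser
  have hstab : ∀ σ : alternatingGroup (Fin r), (σ : Perm (Fin r)) a₀ = a₀ →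
      (σ : Perm (Fin r)) b₀ = b₀ → P σ e₀ = e₀ := by
    intro σ h1 h2
    have hmem : ∀ q, (q ≠ a₀ ∧ q ≠ b₀) ↔ ((σ : Perm (Fin r)) q ≠ a₀ ∧ (σ : Perm (Fin r)) q ≠ b₀) :=
      fun q => by
        constructor
        · rintro ⟨u, v⟩
          exact ⟨fun e => u ((σ : Perm (Fin r)).injective (e.trans h1.symm)),
            fun e => v ((σ : Perm (Fin r)).injective (e.trans h2.symm))⟩
        · rintro ⟨u, v⟩
          exact ⟨fun e => u (by rw [e, h1]), fun e => v (by rw [e, h2])⟩
    let S := {q : Fin r // q ≠ a₀ ∧ q ≠ b₀}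
    let ι : alternatingGroup S →* alternatingGroup (Fin r) :=
      ((Perm.ofSubtype).comp (alternatingGroup S).subtype).codRestrict _ fun g => by
        rw [mem_alternatingGroup]
        show Perm.sign (Perm.ofSubtype (g : Perm S)) = 1
        rw [Perm.sign_ofSubtype]
        exact mem_alternatingGroup.1 g.2
    let τ : Perm S := (σ : Perm (Fin r)).subtypePerm fun q => (hmem q).symm
    have hτ : Perm.ofSubtype τ = (σ : Perm (Fin r)) := by
      refine Perm.ofSubtype_subtypePerm _ fun q hq => ?_
      by_contra h'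
      push Not at h'
      by_cases ha : q = a₀
      · exact hq (ha ▸ h1)
      · exact hq ((h' ha) ▸ h2)
    have hτA : τ ∈ alternatingGroup S := by
      rw [mem_alternatingGroup, ← Perm.sign_ofSubtype, hτ]
      exact mem_alternatingGroup.1 σ.2
    let Fix : Subgroup (alternatingGroup S) :=
      { carrier := {g | P (ι g) e₀ = e₀}
        one_mem' := by simp
        mul_mem' := fun {x y} hx hy => by
          show P (ι (x * y)) e₀ = e₀
          rw [map_mul, hmul, hy, hx]
        inv_mem' := fun {x} hx => by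
          show P (ι x⁻¹) e₀ = e₀
          conv_lhs => rw [← hx]
          rw [map_inv, P_inv_apply] }
    obtain ⟨u, hu, v, hv, huv⟩ := Finset.one_lt_card.1 (show 1 < (Finset.univ : Finset S).card by
      have hsc : Fintype.card S = r - 2 := by
        rw [Fintype.card_subtype,
          show (Finset.univ.filter fun q => q ≠ a₀ ∧ q ≠ b₀) = ({a₀, b₀} : Finset (Fin r))ᶜ by
            ext q; simp, Finset.card_compl, Fintype.card_fin, Finset.card_pair n01]
      rw [Finset.card_univ, hsc]; omega)
    have htop : Fix = ⊤ := by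
      rw [eq_top_iff, ← closure_cyc huv, Subgroup.closure_le]
      rintro _ ⟨i, hiu, hiv, rfl⟩
      show P (ι (cyc u v i)) e₀ = e₀
      have e1 : ι (cyc u v i) = cyc (u : Fin r) v i := by
        refine Subtype.ext (Equiv.ext fun q => ?_)
        show Perm.ofSubtype ((cyc u v i : alternatingGroup S) : Perm S) q = _
        have huv' : (u : Fin r) ≠ v := fun e => huv (Subtype.ext e)
        have hui' : (u : Fin r) ≠ i := fun e => hiu (Subtype.ext e.symm)
        have hvi' : (v : Fin r) ≠ i := fun e => hiv (Subtype.ext e.symm)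
        by_cases hq : q ≠ a₀ ∧ q ≠ b₀
        · rw [Perm.ofSubtype_apply_of_mem (p := fun q => q ≠ a₀ ∧ q ≠ b₀) _ hq]
          by_cases q1 : q = u
          · subst q1
            rw [cyc_apply_a huv' hui' hvi']
            exact congrArg Subtype.val (cyc_apply_a huv hiu.symm hiv.symm)
          by_cases q2 : q = v
          · subst q2
            rw [cyc_apply_b huv' hui']
            exact congrArg Subtype.val (cyc_apply_b huv hiu.symm)
          by_cases q3 : q = i
          · subst q3
            rw [cyc_apply_i huv' hui' hvi']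
            exact congrArg Subtype.val (cyc_apply_i huv hiu.symm hiv.symm)
          rw [cyc_apply_of_ne huv' hui' q1 q2 q3]
          exact congrArg Subtype.val (cyc_apply_of_ne huv hiu.symm (x := ⟨q, hq⟩)
            (fun e => q1 (congrArg Subtype.val e)) (fun e => q2 (congrArg Subtype.val e))
            (fun e => q3 (congrArg Subtype.val e)))
        · rw [Perm.ofSubtype_apply_of_not_mem (p := fun q => q ≠ a₀ ∧ q ≠ b₀) _ hq, cyc_apply_of_ne huv' hui'
            (fun e => hq (by rw [e]; exact u.2)) (fun e => hq (by rw [e]; exact v.2)) (fun e => hq (by rw [e]; exact i.2))]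
      rw [e1]
      exact hcycfix u v i (fun e => huv (Subtype.ext e)) (fun e => hiu (Subtype.ext e.symm))
        (fun e => hiv (Subtype.ext e.symm)) u.2.1 u.2.2 v.2.1 v.2.2 i.2.1 i.2.2
    have h : (⟨τ, hτA⟩ : alternatingGroup S) ∈ Fix := htop ▸ Subgroup.mem_top _
    have e2 : ι ⟨τ, hτA⟩ = σ := Subtype.ext hτ
    have h' : P (ι ⟨τ, hτA⟩) e₀ = e₀ := h
    rwa [e2] at h'
  have hgex : ∀ a b : Fin r, a ≠ b → ∃ g : alternatingGroup (Fin r),
      (g : Perm (Fin r)) a₀ = a ∧ (g : Perm (Fin r)) b₀ = b := by
    intro a b hab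
    obtain ⟨g, hg⟩ := exists_even_map (α := Fin r) (by rw [Fintype.card_fin]; omega) ![a₀, b₀]
      ![a, b] (pair_inj n01) (pair_inj hab)
    have g0 := hg 0; have g1 := hg 1
    simp only [Matrix.cons_val] at g0 g1
    exact ⟨g, g0, g1⟩
  let E : Fin r → Fin r → V := fun a b => if h : a = b then 0 else P (hgex a b h).choose e₀
  have hE : ∀ a b (g : alternatingGroup (Fin r)), (g : Perm (Fin r)) a₀ = a →
      (g : Perm (Fin r)) b₀ = b → E a b = P g e₀ := by
    intro a b g h1 h2
    have hab : a ≠ b := h1 ▸ h2 ▸ (g : Perm (Fin r)).injective.ne n01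
    simp only [E, dif_neg hab]
    set g' := (hgex a b hab).choose
    obtain ⟨h1', h2'⟩ := (hgex a b hab).choose_spec
    have h := hstab (g⁻¹ * g')
      (by rw [Subgroup.coe_mul, Subgroup.coe_inv, Perm.mul_apply, h1', Perm.inv_eq_iff_eq]; exact h1.symm)
      (by rw [Subgroup.coe_mul, Subgroup.coe_inv, Perm.mul_apply, h2', Perm.inv_eq_iff_eq]; exact h2.symm)
    rw [hmul] at h
    have h'' := congrArg (P g) h
    rwa [← hmul g g⁻¹, mul_inv_cancel, map_one, Module.End.one_apply] at h''
  have hEmem : ∀ a b c : Fin r, a ≠ b → c ≠ a → c ≠ b → E a b ∈ tspace P {a, b, c} := by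
    intro a b c hab hca hcb
    obtain ⟨g, h1, h2⟩ := hgex a b hab
    rw [hE a b g h1 h2]
    have h := map_tspace P g {a₀, b₀, (g : Perm (Fin r))⁻¹ c} ⟨e₀, hbase _
      (fun e => hca (by rw [← h1, ← e, ← Perm.mul_apply, mul_inv_cancel, Perm.one_apply]))
      (fun e => hcb (by rw [← h2, ← e, ← Perm.mul_apply, mul_inv_cancel, Perm.one_apply])), rfl⟩
    simpa [Finset.image_insert, h1, h2] using h
  have hequiv : ∀ σ : alternatingGroup (Fin r), ∀ a b,
      P σ (E a b) = E ((σ : Perm (Fin r)) a) ((σ : Perm (Fin r)) b) := by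
    intro σ a b
    rcases eq_or_ne a b with rfl | hab
    · simp [E]
    obtain ⟨g, h1, h2⟩ := hgex a b hab
    rw [hE a b g h1 h2, hE _ _ (σ * g) (by rw [Subgroup.coe_mul, Perm.mul_apply, h1])
      (by rw [Subgroup.coe_mul, Perm.mul_apply, h2]), hmul]
  have hne : ∀ a b, a ≠ b → E a b ≠ 0 := by
    intro a b hab h
    obtain ⟨g, h1, h2⟩ := hgex a b hab
    rw [hE a b g h1 h2, ← map_zero (P g)] at h
    exact he₀ (P_injective_apply P g h)
  refine no_pair_lines hpr (by omega) P hirr (by omega) hn.le E (fun a => by simp [E]) hne hequiv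
    (fun a b c hab hac hbc => ?_) (fun a b hab => ?_)
  · set T := P (cyc a b c)
    have hT3 : T * T * T = 1 := by
      rw [← map_mul, ← map_mul, ← pow_two, ← pow_succ, cyc_cube hab hac hbc, map_one]
    have hmem := hEmem a b c hab hac.symm hbc.symm
    rw [hrange a b c hab hac hbc] at hmem
    obtain ⟨v, hv⟩ := hmem
    have h0 : E a b + T (E a b) + T (T (E a b)) = 0 := by
      rw [← hv]
      have : (1 + T + T * T) * (T - 1) = 0 := by
        have e : (1 + T + T * T) * (T - 1) = T * T * T - 1 := by noncomm_ring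
        rw [e, hT3, sub_self]
      have := LinearMap.congr_fun this v
      simpa only [Module.End.mul_apply, LinearMap.add_apply, Module.End.one_apply,
        LinearMap.zero_apply] using this
    have e1 : T (E a b) = E b c := by
      rw [hequiv, cyc_apply_a hab hac hbc, cyc_apply_b hab hac]
    have e2 : T (E b c) = E c a := by
      rw [hequiv, cyc_apply_b hab hac, cyc_apply_i hab hac hbc]
    rw [e1, e2] at h0
    exact h0
  · obtain ⟨g, h1, h2⟩ := hgex a b hab
    obtain ⟨g', h1', h2'⟩ := hgex b a hab.symm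
    rw [hE b a g' h1' h2', hE a b g h1 h2]
    have h3 : P (g⁻¹ * g') e₀ ∈ L a₀ b₀ c₀ c₁ := by
      have hu1 : ((g⁻¹ * g' : alternatingGroup (Fin r)) : Perm (Fin r)) a₀ = b₀ := by
        simp only [Subgroup.coe_mul, Subgroup.coe_inv, Perm.mul_apply, h1', ← h2, Perm.coe_inv, Equiv.symm_apply_apply]
      have hu2 : ((g⁻¹ * g' : alternatingGroup (Fin r)) : Perm (Fin r)) b₀ = a₀ := by
        simp only [Subgroup.coe_mul, Subgroup.coe_inv, Perm.mul_apply, h2', ← h1, Perm.coe_inv, Equiv.symm_apply_apply]
      have key : ∀ c, c ≠ a₀ → c ≠ b₀ → P (g⁻¹ * g') e₀ ∈ tspace P {a₀, b₀, c} := by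
        intro c hca hcb
        set u := ((g⁻¹ * g' : alternatingGroup (Fin r)) : Perm (Fin r)) with hu
        have h := map_tspace P (g⁻¹ * g') {a₀, b₀, u⁻¹ c} ⟨e₀, hbase _
          (fun e => hcb (by rw [← hu1, ← e, ← Perm.mul_apply, mul_inv_cancel, Perm.one_apply]))
          (fun e => hca (by rw [← hu2, ← e, ← Perm.mul_apply, mul_inv_cancel, Perm.one_apply])), rfl⟩
        rw [← hu, Finset.image_insert, Finset.image_insert, Finset.image_singleton, hu1, hu2,
          ← Perm.mul_apply, mul_inv_cancel, Perm.one_apply, Finset.insert_comm] at h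
        exact h
      exact ⟨key c₀ n0c.symm n1c.symm, key c₁ n0d.symm n1d.symm⟩
    rw [hspan] at h3
    obtain ⟨μ, hμ⟩ := Submodule.mem_span_singleton.1 h3
    refine ⟨μ, ?_⟩
    rw [← map_smul, hμ, ← hmul, mul_inv_cancel_left]

end CfsgLib.AltSection
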