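import Cfsg.Agent.AltSection.Cases
import Cfsg.Agent.AltSection.Chain

/-!
The bound for irreducible spin representations.
-/

set_option autoImplicit false

namespace CfsgLib.AltSection

open Equiv Equiv.Perm Module CfsgLib.BPres

variable {r : ℕ} {H : Type*} [Group H] {K V : Type*} [Field K] [AddCommGroup V] [Module K V]
  {C : Cover r H} (R : Rep C K V)

theorem six_inj {a b i u v w : Fin r} (h : [a, b, i, u, v, w].Nodup) :
    Function.Injective ![a, b, i, u, v, w] := by
  intro s t hst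
  have := List.nodup_iff_injective_get.1 h
  have hs : ∀ k : Fin 6, ![a, b, i, u, v, w] k = [a, b, i, u, v, w].get k := fun k => by
    fin_cases k <;> rfl
  rw [hs, hs] at hst
  exact this hst

theorem ker_eq_bot_of_disj (hr : 9 ≤ r) (hd : Disj R) : C.π.ker = ⊥ := by
  let q : Fin 7 → Fin r := fun i => ⟨i, by omega⟩
  have hq : Function.Injective q := fun s t h => Fin.ext (by simpa [q, Fin.ext_iff] using h)
  have hne : ∀ {s t : Fin 7}, s ≠ t → q s ≠ q t := fun h h' => h (hq h')
  have h01 := hne (show (0 : Fin 7) ≠ 1 by decide)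
  have h02 := hne (show (0 : Fin 7) ≠ 2 by decide)
  have h03 := hne (show (0 : Fin 7) ≠ 3 by decide)
  have h12 := hne (show (1 : Fin 7) ≠ 2 by decide)
  have h13 := hne (show (1 : Fin 7) ≠ 3 by decide)
  have h23 := hne (show (2 : Fin 7) ≠ 3 by decide)
  have h45 := hne (show (4 : Fin 7) ≠ 5 by decide)
  have h46 := hne (show (4 : Fin 7) ≠ 6 by decide)
  have h56 := hne (show (5 : Fin 7) ≠ 6 by decide)
  by_contra hker
  refine C.sq_ne_one (by omega) hker h01 h02 h03 h12 h13 h23 ?_
  set S := R.ρ (C.tl (q 4) (q 5) (q 6))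
  have hS : S - 1 ≠ 0 := by
    intro h
    rw [sub_eq_zero] at h
    have h' := congrArg C.π (R.faithful _ h)
    rw [C.π_tl h45 h46 h56, map_one] at h'
    have h'' := congrArg (fun g : alternatingGroup (Fin r) => (g : Perm (Fin r)) (q 4)) h'
    simp [cyc_apply_a h45 h46 h56] at h''
    exact h45 h''.symm
  obtain ⟨u, hu⟩ : ∃ u, (S - 1) u ≠ 0 := by
    by_contra h
    push Not at h
    exact hS (LinearMap.ext h)
  have hfix : ∀ k : Fin 7, (k = 2 ∨ k = 3) →
      R.ρ (C.tl (q 0) (q 1) (q k)) ((S - 1) u) = (S - 1) u := by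
    intro k hk
    have hinj : Function.Injective ![(0 : Fin 7), 1, k, 4, 5, 6] := by
      rcases hk with rfl | rfl <;> decide
    have h := hd (fun i => q (![(0 : Fin 7), 1, k, 4, 5, 6] i)) (hq.comp hinj)
    simp only [Matrix.cons_val] at h
    have h' := LinearMap.congr_fun h u
    rw [Module.End.mul_apply, LinearMap.sub_apply, Module.End.one_apply, LinearMap.zero_apply,
      sub_eq_zero] at h'
    exact h'
  refine R.eq_one_of_fix ?_ hu ?_
  · rw [MonoidHom.mem_ker, map_pow, map_mul, C.π_tl h01 h02 h12, C.π_tl h01 h03 h13]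
    exact cyc_sq h01 h02 h12 h03 h13 h23
  · simp only [pow_two, map_mul, Module.End.mul_apply]
    rw [hfix 3 (Or.inr rfl), hfix 2 (Or.inl rfl), hfix 3 (Or.inr rfl), hfix 2 (Or.inl rfl)]

/-- The image of a three-cycle minus one is at least two-dimensional. -/
theorem two_le_finrank_range [FiniteDimensional K V] {p : ℕ} [CharP K p] (hp : p.Prime) (hr : 9 ≤ r)
    (hker : C.π.ker = ⊥) {a b i : Fin r} (hab : a ≠ b) (hai : a ≠ i) (hbi : b ≠ i) :
    2 ≤ finrank K (LinearMap.range (R.ρ (C.tl a b i) - 1)) := by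
  by_contra hlt
  push Not at hlt
  set T := R.ρ (C.tl a b i) with hT
  have hT3 : T * T * T = 1 := by
    rw [hT, ← map_mul, ← map_mul, ← pow_two, ← pow_succ, C.tl_cube hab hai hbi, map_one]
  have hne : T - 1 ≠ 0 := by
    intro h
    rw [sub_eq_zero] at h
    have h' := congrArg C.π (R.faithful _ h)
    rw [C.π_tl hab hai hbi, map_one] at h'
    have h'' := congrArg (fun g : alternatingGroup (Fin r) => (g : Perm (Fin r)) a) h'
    simp [cyc_apply_a hab hai hbi] at h''
    exact hab h''.symm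
  obtain ⟨⟨u, hu⟩, hspan⟩ := finrank_le_one_iff.1 (Nat.le_of_lt_succ hlt)
  have hspan' : ∀ v, ∃ c : K, c • u = (T - 1) v := fun v => by
    obtain ⟨c, hc⟩ := hspan ⟨_, v, rfl⟩
    exact ⟨c, congrArg Subtype.val hc⟩
  have hu0 : u ≠ 0 := fun h => hne (LinearMap.ext fun v => by
    obtain ⟨c, hc⟩ := hspan' v
    rw [← hc, h, smul_zero, LinearMap.zero_apply])
  obtain ⟨c, hc⟩ := hspan' u
  have hTu : T u = (c + 1) • u := by
    rw [add_smul, one_smul, hc, LinearMap.sub_apply, Module.End.one_apply, sub_add_cancel]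
  obtain ⟨g, hg⟩ := exists_even_map (α := Fin r) (m := 3) (by rw [Fintype.card_fin]; omega) ![a, b, i]
    ![b, a, i] (triple_inj hab hai hbi) (triple_inj hab.symm hbi hai)
  have g0 := hg 0; have g1 := hg 1; have g2 := hg 2
  simp only [Matrix.cons_val] at g0 g1 g2
  obtain ⟨h, rfl⟩ := C.surj g
  have hconj : h * C.tl a b i = C.tl a b i ^ 2 * h := by
    rw [← mul_inv_eq_iff_eq_mul, C.tl_conj hab hai hbi, g0, g1, g2, C.tl_swap hab hai hbi]
  have hconj' : ∀ v, R.ρ h (T v) = T (T (R.ρ h v)) := fun v => by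
    rw [hT, ← Module.End.mul_apply, ← map_mul, hconj, pow_two, map_mul, map_mul,
      Module.End.mul_apply, Module.End.mul_apply]
  -- the line is preserved
  obtain ⟨w, hw⟩ := hu
  have hhu : ∃ γ : K, γ • u = R.ρ h u := by
    have e : R.ρ h u = (T - 1) ((T + 1) (R.ρ h w)) := by
      have e2 : (T - 1) * (T + 1) = T * T - 1 := by noncomm_ring
      rw [← Module.End.mul_apply, e2, ← hw, LinearMap.sub_apply, Module.End.one_apply, map_sub,
        LinearMap.sub_apply, Module.End.one_apply, Module.End.mul_apply, hconj']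
    rw [e]; exact hspan' _
  obtain ⟨γ, hγ⟩ := hhu
  have hγ0 : γ ≠ 0 := fun h0 => by
    have h1 := congrArg (R.ρ h⁻¹) hγ
    rw [h0, zero_smul, map_zero, ← Module.End.mul_apply, ← map_mul, inv_mul_cancel, map_one,
      Module.End.one_apply] at h1
    exact hu0 h1.symm
  have hl : c + 1 = 1 := by
    have h1 := hconj' u
    rw [hTu, map_smul, ← hγ, map_smul, hTu, map_smul, map_smul, hTu, smul_smul, smul_smul,
      smul_smul] at h1
    have h2 : ((c + 1) * γ - γ * (c + 1) * (c + 1)) • u = 0 := by rw [sub_smul, h1, sub_self]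
    have h3 := sub_eq_zero.1 ((smul_eq_zero.1 h2).resolve_right hu0)
    have hc1 : c + 1 ≠ 0 := by
      intro h0
      have h4 := LinearMap.congr_fun hT3 u
      rw [Module.End.mul_apply, Module.End.mul_apply, Module.End.one_apply, hTu, h0, zero_smul,
        map_zero, map_zero] at h4
      exact hu0 h4.symm
    have h5 : (c + 1) * γ * 1 = (c + 1) * γ * (c + 1) := by rw [mul_one]; exact h3.trans (by ring)
    exact (mul_left_cancel₀ (mul_ne_zero hc1 hγ0) h5).symm
  -- unipotent
  have hN2 : (T - 1) * (T - 1) = 0 := LinearMap.ext fun v => by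
    obtain ⟨d, hd⟩ := hspan' v
    rw [Module.End.mul_apply, LinearMap.zero_apply, ← hd, map_smul, LinearMap.sub_apply,
      Module.End.one_apply, hTu, hl, one_smul, sub_self, smul_zero]
  have h3N : (3 : K) • (T - 1) = 0 := by
    have : (T - 1) + (T - 1) + (T - 1) = T * T * T - 1 - (T + 1 + 1) * ((T - 1) * (T - 1)) := by
      noncomm_ring
    rw [hT3, hN2, mul_zero, sub_self, sub_zero] at this
    rw [show (3 : K) = 1 + 1 + 1 by norm_num, add_smul, add_smul, one_smul]
    exact this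
  have h3 : (3 : K) = 0 := (smul_eq_zero.1 h3N).resolve_right hne
  have h2 : (2 : K) ≠ 0 := fun h2 => one_ne_zero (α := K) (by linear_combination h3 - h2)
  -- every three-cycle satisfies the quadratic
  have hq : ∀ a' b' i' : Fin r, a' ≠ b' → a' ≠ i' → b' ≠ i' →
      R.ρ (C.tl a' b' i') * R.ρ (C.tl a' b' i') + R.ρ (C.tl a' b' i') + 1 = 0 := by
    intro a' b' i' hab' hai' hbi'
    obtain ⟨g', hg'⟩ := exists_even_map (α := Fin r) (m := 3) (by rw [Fintype.card_fin]; omega)
      ![a, b, i] ![a', b', i'] (triple_inj hab hai hbi) (triple_inj hab' hai' hbi')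
    have g0' := hg' 0; have g1' := hg' 1; have g2' := hg' 2
    simp only [Matrix.cons_val] at g0' g1' g2'
    obtain ⟨h', rfl⟩ := C.surj g'
    have e : C.tl a' b' i' = h' * C.tl a b i * h'⁻¹ := by
      rw [C.tl_conj hab hai hbi, g0', g1', g2']
    have hq0 : T * T + T + 1 = 0 := by
      have e' : T * T + T + 1 = (T - 1) * (T - 1) + (3 : K) • T := by
        rw [show (3 : K) = 1 + 1 + 1 by norm_num, add_smul, add_smul, one_smul]
        noncomm_ring
      rw [e', hN2, h3, zero_smul, add_zero]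
    have hinv : R.ρ h' * R.ρ h'⁻¹ = 1 := by rw [← map_mul, mul_inv_cancel, map_one]
    have hinv' : R.ρ h'⁻¹ * R.ρ h' = 1 := by rw [← map_mul, inv_mul_cancel, map_one]
    rw [e, map_mul, map_mul, ← hT]
    calc R.ρ h' * T * R.ρ h'⁻¹ * (R.ρ h' * T * R.ρ h'⁻¹) + R.ρ h' * T * R.ρ h'⁻¹ + 1
        = R.ρ h' * T * (R.ρ h'⁻¹ * R.ρ h') * (T * R.ρ h'⁻¹) + R.ρ h' * T * R.ρ h'⁻¹ +
          R.ρ h' * R.ρ h'⁻¹ := by rw [hinv]; simp only [mul_assoc]
      _ = R.ρ h' * (T * T + T + 1) * R.ρ h'⁻¹ := by rw [hinv']; noncomm_ring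
      _ = 0 := by rw [hq0, mul_zero, zero_mul]
  let q : Fin 4 → Fin r := fun s => ⟨s, by omega⟩
  have hne4 : ∀ {s t : Fin 4}, s ≠ t → q s ≠ q t := fun h h' =>
    h (Fin.ext (by simpa [q, Fin.ext_iff] using h'))
  refine R.false_of_quadratic h2 hq (hne4 (show (0 : Fin 4) ≠ 1 by decide))
    (hne4 (show (0 : Fin 4) ≠ 2 by decide)) (hne4 (show (0 : Fin 4) ≠ 3 by decide))
    (hne4 (show (1 : Fin 4) ≠ 2 by decide)) (hne4 (show (1 : Fin 4) ≠ 3 by decide))
    (hne4 (show (2 : Fin 4) ≠ 3 by decide)) ?_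
  have : (C.tl (q 0) (q 1) (q 2) * C.tl (q 0) (q 1) (q 3)) ^ 2 ∈ C.π.ker := by
    rw [MonoidHom.mem_ker, map_pow, map_mul,
      C.π_tl (hne4 (by decide)) (hne4 (by decide)) (hne4 (by decide)),
      C.π_tl (hne4 (by decide)) (hne4 (by decide)) (hne4 (by decide))]
    exact cyc_sq (hne4 (by decide)) (hne4 (by decide)) (hne4 (by decide)) (hne4 (by decide))
      (hne4 (by decide)) (hne4 (by decide))
  rwa [hker, Subgroup.mem_bot] at this

include R in
/-- The bound for irreducible spin representations. -/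
theorem core_bound [IsAlgClosed K] [FiniteDimensional K V] {p : ℕ} [CharP K p] (hp : p.Prime)
    (hr : 9 ≤ r) : r - 1 - (if p ∣ r then 1 else 0) ≤ finrank K V := by
  rcases disj_or_bound R hp hr with hd | h
  swap
  · exact h
  have hker := ker_eq_bot_of_disj R hr hd
  let φ : H ≃* alternatingGroup (Fin r) :=
    MulEquiv.ofBijective C.π ⟨(MonoidHom.ker_eq_bot_iff _).1 hker, C.surj⟩
  let P : alternatingGroup (Fin r) →* Module.End K V := R.ρ.comp φ.symm.toMonoidHom
  have hP : ∀ a b i : Fin r, a ≠ b → a ≠ i → b ≠ i → P (cyc a b i) = R.ρ (C.tl a b i) := by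
    intro a b i hab hai hbi
    show R.ρ (φ.symm (cyc a b i)) = _
    congr 1
    rw [MulEquiv.symm_apply_eq]
    exact (C.π_tl hab hai hbi).symm
  refine chain_bound P (R.injective.comp φ.symm.injective) (fun W hW => R.irred W fun h v hv => ?_)
    (fun x hx => ?_) hr (fun a b i hab hai hbi => ?_)
  · have := hW (φ h) v hv
    rwa [show P (φ h) = R.ρ h by simp [P]] at this
  · rw [hP _ _ _ (hx.ne (by decide)) (hx.ne (by decide)) (hx.ne (by decide)),
      hP _ _ _ (hx.ne (by decide)) (hx.ne (by decide)) (hx.ne (by decide))]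
    exact hd x hx
  · rw [hP _ _ _ hab hai hbi]
    exact two_le_finrank_range R hp hr hker hab hai hbi

end CfsgLib.AltSection
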