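import Cfsg.Agent.AltSection.WeightCount

/-!
Passing between cycles of length five and of length three.
-/

set_option autoImplicit false

namespace CfsgLib.AltSection

open Equiv Equiv.Perm Module CfsgLib.BPres

theorem fact_five : Fact (Nat.Prime 5) := ⟨by norm_num⟩

attribute [local instance] fact_five

variable {r : ℕ} {H : Type*} [Group H]

/-- Embeddings of blocks may be prescribed on few points. -/
theorem exists_block_emb {k b m : ℕ} [Fact b.Prime] (hkb : k * b ≤ r) (hm : m + 2 ≤ r)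
    (pos : Fin m → Fin k × ZMod b) (x : Fin m → Fin r) (hpos : Function.Injective pos)
    (hx : Function.Injective x) :
    ∃ e : Fin k × ZMod b ↪ Fin r, ∀ i, e (pos i) = x i := by
  haveI : NeZero b := ⟨(Fact.out : b.Prime).ne_zero⟩
  let f : Fin k × ZMod b ↪ Fin r :=
    ((Equiv.refl (Fin k)).prodCongr (ZMod.finEquiv b).toEquiv.symm |>.trans
      finProdFinEquiv).toEmbedding.trans (Fin.castLEEmb hkb)
  obtain ⟨g, hg⟩ := exists_even_map (by rwa [Fintype.card_fin]) (fun i => f (pos i)) x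
    (f.injective.comp hpos) hx
  exact ⟨f.trans (g : Perm (Fin r)).toEmbedding, fun i => hg i⟩

theorem blockCyc_apply {k b : ℕ} [Fact b.Prime] (e : Fin k × ZMod b ↪ Fin r) (hb : Odd b)
    (i : Fin k) (x : Fin k × ZMod b) :
    (blockCyc e hb i : Perm (Fin r)) (e x) = e (shift i 1 x) :=
  via_apply e _ x

theorem blockCyc_apply_of_ne {k b : ℕ} [Fact b.Prime] (e : Fin k × ZMod b ↪ Fin r) (hb : Odd b)
    (i : Fin k) {y : Fin r} (hy : ∀ x, e x ≠ y) : (blockCyc e hb i : Perm (Fin r)) y = y :=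
  via_apply_of_ne e _ hy

theorem blockCyc_pow_apply {k b : ℕ} [Fact b.Prime] (e : Fin k × ZMod b ↪ Fin r) (hb : Odd b)
    (i : Fin k) (l : ℕ) (x : Fin k × ZMod b) :
    ((blockCyc e hb i ^ l : alternatingGroup (Fin r)) : Perm (Fin r)) (e x) =
      e (shift i (l : ZMod b) x) := by
  rw [Subgroup.coe_pow]
  show (via e (shift i 1) ^ l) (e x) = _
  rw [← map_pow, shift_pow, mul_one, via_apply]

theorem blockCyc_pow_apply_of_ne {k b : ℕ} [Fact b.Prime] (e : Fin k × ZMod b ↪ Fin r)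
    (hb : Odd b) (i : Fin k) (l : ℕ) {y : Fin r} (hy : ∀ x, e x ≠ y) :
    ((blockCyc e hb i ^ l : alternatingGroup (Fin r)) : Perm (Fin r)) y = y := by
  rw [Subgroup.coe_pow]
  show (via e (shift i 1) ^ l) y = _
  rw [← map_pow, via_apply_of_ne e _ hy]

/-- Blocks of length three carry three-cycles. -/
theorem blockCyc_three {k : ℕ} (e : Fin k × ZMod 3 ↪ Fin r) (hb : Odd 3) (i : Fin k) :
    blockCyc e hb i = cyc (e (i, 0)) (e (i, 1)) (e (i, 2)) := by
  have hne : ∀ {s t : ZMod 3}, s ≠ t → e (i, s) ≠ e (i, t) := fun h h' =>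
    h (Prod.ext_iff.1 (e.injective h')).2
  have h01 := hne (by decide : (0 : ZMod 3) ≠ 1)
  have h02 := hne (by decide : (0 : ZMod 3) ≠ 2)
  have h12 := hne (by decide : (1 : ZMod 3) ≠ 2)
  refine Subtype.ext (Equiv.ext fun y => ?_)
  by_cases hy : ∃ x, e x = y
  · obtain ⟨⟨l, t⟩, rfl⟩ := hy
    rw [blockCyc_apply]
    by_cases hl : l = i
    · subst hl
      rcases (show ∀ t : ZMod 3, t = 0 ∨ t = 1 ∨ t = 2 by decide) t with rfl | rfl | rfl
      · rw [cyc_apply_a h01 h02 h12, shift_apply, if_pos rfl]; rfl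
      · rw [cyc_apply_b h01 h02, shift_apply, if_pos rfl]; rfl
      · rw [cyc_apply_i h01 h02 h12, shift_apply, if_pos rfl]; rfl
    · have hne' : ∀ s, e (l, t) ≠ e (i, s) := fun s h => hl (Prod.ext_iff.1 (e.injective h)).1
      rw [cyc_apply_of_ne h01 h02 (hne' 0) (hne' 1) (hne' 2), shift_apply, if_neg hl, zero_add]
  · push Not at hy
    rw [blockCyc_apply_of_ne e hb i hy,
      cyc_apply_of_ne h01 h02 (hy _).symm (hy _).symm (hy _).symm]

/-- Exchange two points of a block. -/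
def relabel {k : ℕ} [NeZero k] (e : Fin k × ZMod 5 ↪ Fin r) : Fin k × ZMod 5 ↪ Fin r :=
  (Equiv.swap ((0 : Fin k), (1 : ZMod 5)) (0, 2)).toEmbedding.trans e

theorem relabel_apply {k : ℕ} [NeZero k] (e : Fin k × ZMod 5 ↪ Fin r) (x : Fin k × ZMod 5) :
    relabel e x = e (Equiv.swap ((0 : Fin k), (1 : ZMod 5)) (0, 2) x) := rfl

theorem relabel_cyc {k : ℕ} [NeZero k] (e : Fin k × ZMod 5 ↪ Fin r) (hb : Odd 5) :
    blockCyc e hb 0 ^ 4 * blockCyc (relabel e) hb 0 = cyc (e (0, 0)) (e (0, 1)) (e (0, 2)) := by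
  have hne : ∀ {s t : ZMod 5}, s ≠ t → e (0, s) ≠ e (0, t) := fun h h' =>
    h (Prod.ext_iff.1 (e.injective h')).2
  have h01 := hne (by decide : (0 : ZMod 5) ≠ 1)
  have h02 := hne (by decide : (0 : ZMod 5) ≠ 2)
  have h12 := hne (by decide : (1 : ZMod 5) ≠ 2)
  refine Subtype.ext (Equiv.ext fun y => ?_)
  rw [Subgroup.coe_mul, Perm.mul_apply]
  by_cases hy : ∃ x, e x = y
  · obtain ⟨⟨l, t⟩, rfl⟩ := hy
    have e1 : e (l, t) = relabel e (Equiv.swap ((0 : Fin k), (1 : ZMod 5)) (0, 2) (l, t)) := by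
      rw [relabel_apply, Equiv.swap_apply_self]
    conv_lhs => rw [e1, blockCyc_apply, relabel_apply, blockCyc_pow_apply]
    by_cases hl : l = 0
    · subst hl
      have hsw : ∀ t : ZMod 5, Equiv.swap ((0 : Fin k), (1 : ZMod 5)) (0, 2) (0, t) =
          (0, Equiv.swap (1 : ZMod 5) 2 t) := fun t => by
        simp only [Equiv.swap_apply_def, Prod.ext_iff, true_and]
        split_ifs <;> simp_all
      simp only [hsw, shift_apply, if_true]
      rcases (show ∀ t : ZMod 5, t = 0 ∨ t = 1 ∨ t = 2 ∨ t = 3 ∨ t = 4 by decide) t with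
        rfl | rfl | rfl | rfl | rfl
      · rw [cyc_apply_a h01 h02 h12]; exact congrArg e (Prod.ext rfl (by dsimp only; decide))
      · rw [cyc_apply_b h01 h02]; exact congrArg e (Prod.ext rfl (by dsimp only; decide))
      · rw [cyc_apply_i h01 h02 h12]; exact congrArg e (Prod.ext rfl (by dsimp only; decide))
      · rw [cyc_apply_of_ne h01 h02 (hne (by decide)) (hne (by decide)) (hne (by decide))]
        exact congrArg e (Prod.ext rfl (by dsimp only; decide))
      · rw [cyc_apply_of_ne h01 h02 (hne (by decide)) (hne (by decide)) (hne (by decide))]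
        exact congrArg e (Prod.ext rfl (by dsimp only; decide))
    · have hne' : ∀ s, e (l, t) ≠ e (0, s) := fun s h => hl (Prod.ext_iff.1 (e.injective h)).1
      rw [cyc_apply_of_ne h01 h02 (hne' 0) (hne' 1) (hne' 2)]
      congr 1
      simp [shift_apply, Equiv.swap_apply_def, Prod.ext_iff, hl]
  · push Not at hy
    have hy' : ∀ x, relabel e x ≠ y := fun x => hy _
    rw [blockCyc_apply_of_ne _ hb 0 hy', blockCyc_pow_apply_of_ne e hb 0 4 hy,
      cyc_apply_of_ne h01 h02 (hy _).symm (hy _).symm (hy _).symm]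

variable {K V : Type*} [Field K] [AddCommGroup V] [Module K V] {C : Cover r H}

namespace Rep

variable (R : Rep C K V)

/-- The elements acting trivially on the image of `N`. -/
def fixer (N : Module.End K V) : Subgroup H where
  carrier := {h | R.ρ h * N = N}
  one_mem' := by simp
  mul_mem' {x y} hx hy := by
    show R.ρ (x * y) * N = N
    rw [map_mul, mul_assoc, hy, hx]
  inv_mem' {x} hx := by
    show R.ρ x⁻¹ * N = N
    conv_lhs => rw [← hx]
    rw [← mul_assoc, ← map_mul, inv_mul_cancel, map_one, one_mul]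

theorem mem_fixer {N : Module.End K V} {h : H} : h ∈ R.fixer N ↔ R.ρ h * N = N := Iff.rfl

theorem mem_fixer_iff {N : Module.End K V} {h : H} :
    h ∈ R.fixer N ↔ (R.ρ h - 1) * N = 0 := by
  rw [mem_fixer, sub_mul, one_mul, sub_eq_zero]

/-- Two cycles of length five give the cycle of length three. -/
theorem five_to_three {k : ℕ} [NeZero k] (e : Fin k × ZMod 5 ↪ Fin r) (hb : Odd 5)
    (N : Module.End K V)
    (h1 : (blockOp R e hb 0 - 1) * N = 0) (h2 : (blockOp R (relabel e) hb 0 - 1) * N = 0) :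
    (R.ρ (C.tl (e (0, 0)) (e (0, 1)) (e (0, 2))) - 1) * N = 0 := by
  rw [blockOp, ← mem_fixer_iff] at h1 h2
  rw [← mem_fixer_iff]
  have hne : ∀ {s t : ZMod 5}, s ≠ t → e (0, s) ≠ e (0, t) := fun h h' =>
    h (Prod.ext_iff.1 (e.injective h')).2
  have h01 := hne (by decide : (0 : ZMod 5) ≠ 1)
  have h02 := hne (by decide : (0 : ZMod 5) ≠ 2)
  have h12 := hne (by decide : (1 : ZMod 5) ≠ 2)
  set x := C.lift (blockCyc e hb 0) ^ 4 * C.lift (blockCyc (relabel e) hb 0)
  set y := C.tl (e (0, 0)) (e (0, 1)) (e (0, 2))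
  have hπ : C.π y = C.π x := by
    rw [C.π_tl h01 h02 h12, map_mul, map_pow, C.π_lift (odd_orderOf_blockCyc e hb 0),
      C.π_lift (odd_orderOf_blockCyc _ hb 0), relabel_cyc]
  obtain ⟨z, hz, hxz⟩ := C.eq_mul_of_map_eq hπ
  have h4 : x ^ 4 = y := by
    have hc : Commute y z := C.ker_comm hz y
    rw [hxz, hc.mul_pow, pow_succ y 3, C.tl_cube h01 h02 h12, one_mul,
      show z ^ 4 = (z * z) * (z * z) by simp [pow_succ, mul_assoc], C.mul_self_of_mem_ker hz, one_mul, mul_one]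
  rw [← h4]
  exact pow_mem (mul_mem (pow_mem h1 4) h2) 4

theorem tl_blockOp_comm {k b : ℕ} [Fact b.Prime] (e : Fin k × ZMod b ↪ Fin r) (hb : Odd b)
    (i : Fin k) {x y z : Fin r} (hxy : x ≠ y) (hxz : x ≠ z) (hyz : y ≠ z)
    (hx : ∀ t, e (i, t) ≠ x) (hy : ∀ t, e (i, t) ≠ y) (hz : ∀ t, e (i, t) ≠ z) :
    Commute (R.ρ (C.tl x y z)) (blockOp R e hb i) := by
  have hfix : ∀ {w : Fin r}, (∀ t, e (i, t) ≠ w) → (blockCyc e hb i : Perm (Fin r)) w = w := by
    intro w hw
    by_cases h : ∃ u, e u = w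
    · obtain ⟨⟨l, t⟩, rfl⟩ := h
      rw [blockCyc_apply, shift_apply, if_neg, zero_add]
      exact fun e' : l = i => hw t (by rw [e'])
    · push Not at h
      exact blockCyc_apply_of_ne e hb i h
  have h := C.tl_conj hxy hxz hyz (C.lift (blockCyc e hb i))
  rw [C.π_lift (odd_orderOf_blockCyc e hb i), hfix hx, hfix hy, hfix hz,
    mul_inv_eq_iff_eq_mul] at h
  exact Commute.map (show Commute _ _ from h.symm) R.ρ

theorem tl_comm {x y z x' y' z' : Fin r} (hxy : x ≠ y) (hxz : x ≠ z) (hyz : y ≠ z)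
    (hxy' : x' ≠ y') (hxz' : x' ≠ z') (hyz' : y' ≠ z')
    (hd : ∀ w, w = x ∨ w = y ∨ w = z → w ≠ x' ∧ w ≠ y' ∧ w ≠ z') :
    Commute (R.ρ (C.tl x y z)) (R.ρ (C.tl x' y' z')) := by
  have hfix : ∀ {w : Fin r}, w ≠ x' ∧ w ≠ y' ∧ w ≠ z' →
      (cyc x' y' z' : Perm (Fin r)) w = w := fun h => cyc_apply_of_ne hxy' hxz' h.1 h.2.1 h.2.2
  have h := C.tl_conj hxy hxz hyz (C.tl x' y' z')
  rw [C.π_tl hxy' hxz' hyz', hfix (hd x (Or.inl rfl)), hfix (hd y (Or.inr (Or.inl rfl))),
    hfix (hd z (Or.inr (Or.inr rfl))), mul_inv_eq_iff_eq_mul] at h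
  exact Commute.map (show Commute _ _ from h.symm) R.ρ

end Rep

end CfsgLib.AltSection
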