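import Cfsg.Agent.AltSection.Cycles

/-!
Three-cycles without fixed vectors.
-/

set_option autoImplicit false

namespace CfsgLib.AltSection

open Equiv Equiv.Perm Module CfsgLib.BPres

variable {r : ℕ} {H : Type*} [Group H]
  {K V : Type*} [Field K] [AddCommGroup V] [Module K V] {C : Cover r H}

theorem Cover.tl_swap (C : Cover r H) {a b i : Fin r} (hab : a ≠ b) (hai : a ≠ i) (hbi : b ≠ i) :
    C.tl b a i = C.tl a b i ^ 2 := by
  have h : cyc b a i = cyc a b i ^ 2 := by
    refine Subtype.ext (Equiv.ext fun y => ?_)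
    rw [pow_two, Subgroup.coe_mul, Perm.mul_apply]
    by_cases h1 : y = a
    · subst h1
      rw [cyc_apply_b hab.symm hbi, cyc_apply_a hab hai hbi, cyc_apply_b hab hai]
    by_cases h2 : y = b
    · subst h2
      rw [cyc_apply_a hab.symm hbi hai, cyc_apply_b hab hai, cyc_apply_i hab hai hbi]
    by_cases h3 : y = i
    · subst h3
      rw [cyc_apply_i hab.symm hbi hai, cyc_apply_i hab hai hbi, cyc_apply_a hab hai hbi]
    rw [cyc_apply_of_ne hab.symm hbi h2 h1 h3, cyc_apply_of_ne hab hai h1 h2 h3,
      cyc_apply_of_ne hab hai h1 h2 h3]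
  rw [Cover.tl, Cover.tl, h, C.lift_pow (Cover.odd_orderOf_cyc hab hai hbi)]

namespace Rep

variable (R : Rep C K V)

theorem injective : Function.Injective R.ρ := fun x y hxy => by
  refine mul_inv_eq_one.1 (R.faithful _ ?_)
  rw [map_mul, hxy, ← map_mul, mul_inv_cancel, map_one]

/-- A central element fixing a nonzero vector is trivial. -/
theorem eq_one_of_fix {z : H} (hz : z ∈ C.π.ker) {v : V} (hv0 : v ≠ 0) (hv : R.ρ z v = v) :
    z = 1 := by
  obtain ⟨c, hc⟩ := R.scalar z hz
  rw [hc, LinearMap.smul_apply, Module.End.one_apply] at hv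
  have hc1 : c = 1 := by
    have : (c - 1) • v = 0 := by rw [sub_smul, one_smul, hv, sub_self]
    exact sub_eq_zero.1 ((smul_eq_zero.1 this).resolve_right hv0)
  exact R.faithful z (by rw [hc, hc1, one_smul])

/-- Three-cycles with quadratic minimal polynomial do not occur. -/
theorem false_of_quadratic (h2 : (2 : K) ≠ 0)
    (hq : ∀ a b i : Fin r, a ≠ b → a ≠ i → b ≠ i →
      R.ρ (C.tl a b i) * R.ρ (C.tl a b i) + R.ρ (C.tl a b i) + 1 = 0)
    {a b i j : Fin r} (hab : a ≠ b) (hai : a ≠ i) (haj : a ≠ j) (hbi : b ≠ i) (hbj : b ≠ j)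
    (hij : i ≠ j) (hrel : (C.tl a b i * C.tl a b j) ^ 2 = 1) : False := by
  set A := R.ρ (C.tl a b i) with hA
  set B := R.ρ (C.tl a b j) with hB
  have hA3 : A * A * A = 1 := by
    rw [hA, ← map_mul, ← map_mul, ← pow_two, ← pow_succ, C.tl_cube hab hai hbi, map_one]
  have hB3 : B * B * B = 1 := by
    rw [hB, ← map_mul, ← map_mul, ← pow_two, ← pow_succ, C.tl_cube hab haj hbj, map_one]
  have hAA : A * A = -(A + 1) := eq_neg_of_add_eq_zero_left (by rw [← add_assoc]; exact hq a b i hab hai hbi)
  have hBB : B * B = -(B + 1) := eq_neg_of_add_eq_zero_left (by rw [← add_assoc]; exact hq a b j hab haj hbj)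
  have hAB : A * B * A * B = 1 := by
    have := congrArg R.ρ hrel
    rw [map_pow, map_mul, map_one, ← hA, ← hB, pow_two, ← mul_assoc] at this
    exact this
  have e1 : A * B = B * B * (A * A) := by
    calc A * B = A * B * ((A * ((B * B * B) * A * A))) := by
          rw [hB3, one_mul, ← mul_assoc A A A, hA3, mul_one]
      _ = A * B * A * B * (B * B * (A * A)) := by simp only [mul_assoc]
      _ = B * B * (A * A) := by rw [hAB, one_mul]
  have hBA : B * A * B * A = 1 := by
    calc B * A * B * A = A * A * (A * B * A * B) * A := by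
          simp only [← mul_assoc]; rw [hA3, one_mul]
      _ = 1 := by rw [hAB, mul_one, hA3]
  have e2 : B * A = A * A * (B * B) := by
    calc B * A = B * A * ((B * ((A * A * A) * B * B))) := by
          rw [hA3, one_mul, ← mul_assoc B B B, hB3, mul_one]
      _ = B * A * B * A * (A * A * (B * B)) := by simp only [mul_assoc]
      _ = A * A * (B * B) := by rw [hBA, one_mul]
  rw [hAA, hBB] at e1 e2
  have h3 : (2 : K) • (B + A + 1) = 0 := by
    rw [two_smul]
    have e1' : A * B = B * A + B + A + 1 := by rw [e1]; noncomm_ring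
    have e2' : B * A = A * B + B + A + 1 := by rw [e2]; noncomm_ring
    rw [e2'] at e1'
    linear_combination (norm := noncomm_ring) -e1'
  have h4 : B = A * A := by
    rw [hAA, eq_neg_iff_add_eq_zero, ← add_assoc]
    exact (smul_eq_zero.1 h3).resolve_left h2
  have h5 : C.tl a b j = C.tl b a i := by
    refine R.injective ?_
    rw [C.tl_swap hab hai hbi, map_pow, pow_two]
    exact h4
  have h6 : cyc a b j = cyc b a i := by
    rw [← C.π_tl hab haj hbj, h5, C.π_tl hab.symm hbi hai]
  have h7 := congrArg (fun g : alternatingGroup (Fin r) => (g : Perm (Fin r)) b) h6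
  simp only [cyc_apply_b hab haj, cyc_apply_a hab.symm hbi hai] at h7
  exact haj h7.symm

end Rep

end CfsgLib.AltSection
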