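import Cfsg.Agent.AltSection.Eigen
import Cfsg.Agent.AltSection.Quadratic

/-!
Either disjoint three-cycles have orthogonal images or the degree is large.
-/

set_option autoImplicit false

namespace CfsgLib.AltSection

open Equiv Equiv.Perm Module CfsgLib.BPres

attribute [local instance] fact_five

variable {r : ℕ} {H : Type*} [Group H]
  {K V : Type*} [Field K] [AddCommGroup V] [Module K V] {C : Cover r H}

/-- Lifts of disjoint three-cycles annihilate each other's images. -/
def Disj (R : Rep C K V) : Prop :=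
  ∀ x : Fin 6 → Fin r, Function.Injective x →
    (R.ρ (C.tl (x 0) (x 1) (x 2)) - 1) * (R.ρ (C.tl (x 3) (x 4) (x 5)) - 1) = 0

variable (R : Rep C K V)

theorem blockOp_three {k : ℕ} (e : Fin k × ZMod 3 ↪ Fin r) (hb : Odd 3) (i : Fin k) :
    blockOp R e hb i = R.ρ (C.tl (e (i, 0)) (e (i, 1)) (e (i, 2))) := by
  rw [blockOp, blockCyc_three, Cover.tl]

theorem disj_of_three {k : ℕ} (hk : 2 ≤ k) (hkr : k * 3 ≤ r) (hr : 8 ≤ r) (hb : Odd 3)
    (h : ∀ e : Fin k × ZMod 3 ↪ Fin r,
      (blockOp R e hb ⟨0, by omega⟩ - 1) * (blockOp R e hb ⟨1, by omega⟩ - 1) = 0) :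
    Disj R := by
  intro x hx
  set k0 : Fin k := ⟨0, by omega⟩
  set k1 : Fin k := ⟨1, by omega⟩
  have h01 : k0 ≠ k1 := by simp [k0, k1]
  obtain ⟨e, he⟩ := exists_block_emb (m := 6) hkr (by omega)
    ![(k0, 0), (k0, 1), (k0, 2), (k1, 0), (k1, 1), (k1, 2)] x (by
      intro a b hab
      fin_cases a <;> fin_cases b <;> first
        | rfl
        | (exfalso; simp [h01, h01.symm] at hab; revert hab; decide)
        | (exfalso; simp [h01, h01.symm] at hab)) hx
  have e0 := he 0; have e1 := he 1; have e2 := he 2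
  have e3 := he 3; have e4 := he 4; have e5 := he 5
  simp only [Matrix.cons_val] at e0 e1 e2 e3 e4 e5
  have := h e
  rwa [blockOp_three, blockOp_three, e0, e1, e2, e3, e4, e5] at this

/-- Swap the first two blocks. -/
def flip5 {k : ℕ} [NeZero k] (e : Fin k × ZMod 5 ↪ Fin r) (hk : 2 ≤ k) : Fin k × ZMod 5 ↪ Fin r :=
  ((Equiv.swap (0 : Fin k) ⟨1, by omega⟩).prodCongr (Equiv.refl (ZMod 5))).toEmbedding.trans e

theorem disj_of_five {k : ℕ} [NeZero k] (hk : 2 ≤ k) (hkr : k * 5 ≤ r) (hr : 8 ≤ r) (hb : Odd 5)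
    (h : ∀ e : Fin k × ZMod 5 ↪ Fin r,
      (blockOp R e hb 0 - 1) * (blockOp R e hb ⟨1, by omega⟩ - 1) = 0) :
    Disj R := by
  set k1 : Fin k := ⟨1, by omega⟩
  have h01 : (0 : Fin k) ≠ k1 := by simp [k1, Fin.ext_iff]
  -- block one is unchanged by relabelling
  have hsame : ∀ e : Fin k × ZMod 5 ↪ Fin r, blockCyc (relabel e) hb k1 = blockCyc e hb k1 := by
    intro e
    refine Subtype.ext (Equiv.ext fun y => ?_)
    by_cases hy : ∃ x, e x = y
    · obtain ⟨⟨l, t⟩, rfl⟩ := hy
      have e1 : e (l, t) = relabel e (Equiv.swap ((0 : Fin k), (1 : ZMod 5)) (0, 2) (l, t)) := by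
        rw [relabel_apply, Equiv.swap_apply_self]
      rw [blockCyc_apply]
      conv_lhs => rw [e1, blockCyc_apply, relabel_apply]
      congr 1
      by_cases hl : l = 0
      · subst hl
        have : ∀ s : ZMod 5, shift k1 (1 : ZMod 5) ((0 : Fin k), s) = (0, s) := fun s => by
          simp [shift_apply, h01]
        obtain ⟨s, hs⟩ : ∃ s, Equiv.swap ((0 : Fin k), (1 : ZMod 5)) (0, 2) (0, t) = (0, s) := by
          by_cases h1 : t = 1
          · exact ⟨2, by rw [h1, Equiv.swap_apply_left]⟩
          by_cases h2 : t = 2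
          · exact ⟨1, by rw [h2, Equiv.swap_apply_right]⟩
          exact ⟨t, Equiv.swap_apply_of_ne_of_ne (by simp [h1]) (by simp [h2])⟩
        rw [hs, this, this, ← hs, Equiv.swap_apply_self]
      · have hns : ∀ s : ZMod 5, Equiv.swap ((0 : Fin k), (1 : ZMod 5)) (0, 2) (l, s) = (l, s) :=
          fun s => Equiv.swap_apply_of_ne_of_ne (by simp [hl]) (by simp [hl])
        rw [hns, shift_apply, hns]
    · push Not at hy
      rw [blockCyc_apply_of_ne e hb k1 hy, blockCyc_apply_of_ne (relabel e) hb k1 fun x => hy _]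
  have step : ∀ e : Fin k × ZMod 5 ↪ Fin r,
      (R.ρ (C.tl (e (0, 0)) (e (0, 1)) (e (0, 2))) - 1) * (blockOp R e hb k1 - 1) = 0 := by
    intro e
    refine R.five_to_three e hb _ (h e) ?_
    have := h (relabel e)
    rwa [show blockOp R (relabel e) hb k1 = blockOp R e hb k1 by rw [blockOp, hsame, blockOp]] at this
  intro x hx
  obtain ⟨e, he⟩ := exists_block_emb (m := 6) hkr (by omega)
    ![((0 : Fin k), (0 : ZMod 5)), (0, 1), (0, 2), (k1, 0), (k1, 1), (k1, 2)] x (by
      intro a b hab
      fin_cases a <;> fin_cases b <;> first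
        | rfl
        | (exfalso; simp [h01, h01.symm] at hab; revert hab; decide)
        | (exfalso; simp [h01, h01.symm] at hab)) hx
  have e0 := he 0; have e1 := he 1; have e2 := he 2
  have e3 := he 3; have e4 := he 4; have e5 := he 5
  simp only [Matrix.cons_val] at e0 e1 e2 e3 e4 e5
  set T := R.ρ (C.tl (x 3) (x 4) (x 5)) with hT
  have hne : ∀ {a b : Fin 6}, a ≠ b → x a ≠ x b := fun h h' => h (hx h')
  have key : ∀ e' : Fin k × ZMod 5 ↪ Fin r, (∀ t, e' (k1, t) = e (k1, t)) →
      (blockOp R e' hb 0 - 1) * (T - 1) = 0 := by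
    intro e' he'
    have hf : ∀ p, flip5 e' hk p = e' (Equiv.swap (0 : Fin k) k1 p.1, p.2) := fun p => rfl
    have := step (flip5 e' hk)
    rw [hf, hf, hf] at this
    simp only [Equiv.swap_apply_left, he', e3, e4, e5] at this
    have hop : blockOp R (flip5 e' hk) hb k1 = blockOp R e' hb 0 := by
      rw [blockOp, blockOp]
      congr 2
      refine Subtype.ext (Equiv.ext fun y => ?_)
      by_cases hy : ∃ p, e' p = y
      · obtain ⟨⟨l, t⟩, rfl⟩ := hy
        have e1' : e' (l, t) = flip5 e' hk (Equiv.swap (0 : Fin k) k1 l, t) := by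
          rw [hf, Equiv.swap_apply_self]
        rw [blockCyc_apply]
        conv_lhs => rw [e1', blockCyc_apply, hf]
        simp only [shift_apply, Equiv.swap_apply_self]
        have hiff : Equiv.swap (0 : Fin k) k1 l = k1 ↔ l = 0 := by
          rw [Equiv.swap_apply_eq_iff, Equiv.swap_apply_right]
        simp only [hiff]
      · push Not at hy
        rw [blockCyc_apply_of_ne e' hb 0 hy, blockCyc_apply_of_ne (flip5 e' hk) hb k1 fun p => hy _]
    rw [hop, ← hT] at this
    have hc : Commute (T : Module.End K V) (blockOp R e' hb 0) :=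
      R.tl_blockOp_comm e' hb 0 (hne (by decide)) (hne (by decide)) (hne (by decide))
        (fun t => by rw [← e3, ← he']; exact e'.injective.ne (by simp [h01]))
        (fun t => by rw [← e4, ← he']; exact e'.injective.ne (by simp [h01]))
        (fun t => by rw [← e5, ← he']; exact e'.injective.ne (by simp [h01]))
    rw [((hc.sub_right (Commute.one_right _)).sub_left (Commute.one_left _)).eq] at this
    exact this
  have := R.five_to_three e hb (T - 1) (key e fun _ => rfl)
    (key (relabel e) fun t => by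
      rw [relabel_apply, Equiv.swap_apply_of_ne_of_ne] <;> simp [h01.symm])
  rwa [e0, e1, e2] at this

end CfsgLib.AltSection
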