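import Cfsg.Agent.AltSection.Cycles

/-!
Eigenspaces of a single long cycle.
-/

set_option autoImplicit false

namespace CfsgLib.AltSection

open Equiv Equiv.Perm Module

variable {r b : ℕ} [hbp : Fact b.Prime] {H : Type*} [Group H]
  {K V : Type*} [Field K] [AddCommGroup V] [Module K V] {C : Cover r H}

/-- The eigenspace of a single cycle. -/
noncomputable def eig (R : Rep C K V) (e : Fin 1 × ZMod b ↪ Fin r) (hb : Odd b) (ζ : K)
    (a : ZMod b) : Submodule K V :=
  LinearMap.ker (blockOp R e hb 0 - ζ ^ a.val • (1 : Module.End K V))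

variable (R : Rep C K V) (e : Fin 1 × ZMod b ↪ Fin r) (hb : Odd b) {ζ : K}

theorem mem_eig {a : ZMod b} {v : V} :
    v ∈ eig R e hb ζ a ↔ blockOp R e hb 0 v = ζ ^ a.val • v := by
  simp [eig, sub_eq_zero]

theorem exists_unit_conj (hr : b + 2 ≤ r) (u : (ZMod b)ˣ) :
    ∃ g : alternatingGroup (Fin r),
      g * blockCyc e hb 0 * g⁻¹ = blockCyc e hb 0 ^ (u : ZMod b).val := by
  haveI : NeZero b := ⟨hbp.out.ne_zero⟩
  let z := ZMod.finEquiv b
  obtain ⟨g, hg⟩ := exists_even_map (by rwa [Fintype.card_fin])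
    (fun t => e (0, z t)) (fun t => e (0, (u : ZMod b) * z t))
    (fun s t h => z.injective (Prod.ext_iff.1 (e.injective h)).2)
    (fun s t h => z.injective (u.mulLeft.injective (Prod.ext_iff.1 (e.injective h)).2))
  have hge : ∀ t : ZMod b, (g : Perm (Fin r)) (e (0, t)) = e (0, (u : ZMod b) * t) := fun t => by
    obtain ⟨s, rfl⟩ := z.surjective t
    exact hg s
  refine ⟨g, mul_inv_eq_iff_eq_mul.2 (Subtype.ext (Equiv.ext fun y => ?_))⟩
  simp only [Subgroup.coe_mul, Perm.mul_apply]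
  by_cases hy : ∃ x, e x = y
  · obtain ⟨⟨l, t⟩, rfl⟩ := hy
    obtain rfl : l = 0 := Subsingleton.elim _ _
    simp only [blockCyc_apply, hge, blockCyc_pow_apply, shift_apply, if_true, mul_add, mul_one,
      ZMod.natCast_zmod_val]
  · have hgy : ∀ x, e x ≠ (g : Perm (Fin r)) y := fun x hx => hy ⟨(0, (u⁻¹ : (ZMod b)ˣ) * x.2), by
      apply (g : Perm (Fin r)).injective
      rw [hge, ← mul_assoc, Units.mul_inv, one_mul, ← hx]
      exact congrArg e (Prod.ext (Subsingleton.elim _ _) rfl)⟩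
    push Not at hy
    rw [blockCyc_apply_of_ne e hb 0 hy, blockCyc_pow_apply_of_ne e hb 0 _ hgy]

theorem finrank_eig_le_of_ne_zero [FiniteDimensional K V] (hr : b + 2 ≤ r)
    (hζ : IsPrimitiveRoot ζ b) {a a' : ZMod b} (ha : a ≠ 0) (ha' : a' ≠ 0) :
    finrank K (eig R e hb ζ a) ≤ finrank K (eig R e hb ζ a') := by
  set u : (ZMod b)ˣ := toUnit a * (toUnit a')⁻¹
  obtain ⟨g, hg⟩ := exists_unit_conj e hb hr u
  obtain ⟨h, rfl⟩ := C.surj g
  have hu : (u : ZMod b) * a' = a := by
    simp only [u, Units.val_mul, mul_assoc]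
    nth_rw 2 [← coe_toUnit ha']
    rw [Units.inv_mul, mul_one, coe_toUnit ha]
  have hmc : h * C.lift (blockCyc e hb 0) = C.lift (blockCyc e hb 0) ^ (u : ZMod b).val * h := by
    rw [← mul_inv_eq_iff_eq_mul, C.lift_conj (odd_orderOf_blockCyc e hb 0), hg,
      C.lift_pow (odd_orderOf_blockCyc e hb 0)]
  have hinv : R.ρ h⁻¹ * R.ρ h = 1 := by rw [← map_mul, inv_mul_cancel, map_one]
  have hinj : Function.Injective (R.ρ h) := fun x y hxy => by
    have := congrArg (R.ρ h⁻¹) hxy
    rwa [← Module.End.mul_apply, ← Module.End.mul_apply, hinv, Module.End.one_apply,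
      Module.End.one_apply] at this
  have hmaps : ∀ v ∈ eig R e hb ζ a, R.ρ h v ∈ eig R e hb ζ a' := by
    intro v hv
    rw [mem_eig] at hv ⊢
    set T := blockOp R e hb 0 with hT
    set m := (u : ZMod b).val
    have hm : (T ^ m) (R.ρ h v) = ζ ^ a.val • R.ρ h v := by
      rw [hT, blockOp, ← map_pow, ← Module.End.mul_apply, ← map_mul, ← hmc, map_mul,
        Module.End.mul_apply, ← blockOp, ← hT, hv, map_smul]
    set m' := ((u⁻¹ : (ZMod b)ˣ) : ZMod b).val
    have hmm : m * m' ≡ 1 [MOD b] := by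
      rw [← ZMod.natCast_eq_natCast_iff, Nat.cast_mul, ZMod.natCast_zmod_val, ZMod.natCast_zmod_val,
        Units.mul_inv, Nat.cast_one]
    have hiter : ∀ l : ℕ, ((T ^ m) ^ l) (R.ρ h v) = (ζ ^ a.val) ^ l • R.ρ h v := fun l => by
      induction l with
      | zero => simp
      | succ l ih => rw [pow_succ', Module.End.mul_apply, ih, map_smul, hm, smul_smul, pow_succ]
    have hpow : (T ^ m) ^ m' = T := by
      have hTb : T ^ b = 1 := blockOp_pow R e hb 0
      rw [← pow_mul, pow_eq_pow_mod (m * m') hTb, hmm, ← pow_eq_pow_mod 1 hTb, pow_one]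
    have := hiter m'
    rw [hpow, ← pow_mul, ← pow_val_mul hζ] at this
    rw [this, ← hu, mul_comm (u : ZMod b) a', Units.mul_inv_cancel_right]
  exact LinearMap.finrank_le_finrank_of_injective
    (f := (R.ρ h).restrict hmaps) (fun x y hxy => Subtype.ext (hinj (congrArg Subtype.val hxy)))

/-- If one nontrivial eigenspace has dimension at least `m`, the module has dimension at least
`(b - 1) m`. -/
theorem eig_bound [FiniteDimensional K V] (hr : b + 2 ≤ r) (hζ : IsPrimitiveRoot ζ b) {m : ℕ}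
    {a : ZMod b} (ha : a ≠ 0) (hm : m ≤ finrank K (eig R e hb ζ a)) :
    (b - 1) * m ≤ finrank K V := by
  classical
  haveI : NeZero b := ⟨hbp.out.ne_zero⟩
  have hex : ∀ a' : {x : ZMod b // x ≠ 0},
      ∃ s : Fin m → eig R e hb ζ a'.1, LinearIndependent K s := fun a' =>
    exists_linearIndependent_of_le_finrank
      (hm.trans (finrank_eig_le_of_ne_zero R e hb hr hζ ha a'.2))
  choose s hs using hex
  have hli : LinearIndependent K (fun x : {x : ZMod b // x ≠ 0} × Fin m => (s x.1 x.2 : V)) := by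
    rw [Fintype.linearIndependent_iff]
    intro c hc
    let y : (Fin 1 → ZMod b) → V := fun w =>
      if h : w 0 = 0 then 0 else ∑ t, c (⟨w 0, h⟩, t) • (s ⟨w 0, h⟩ t : V)
    have hy : ∀ a' : {x : ZMod b // x ≠ 0},
        y (fun _ => a'.1) = ∑ t, c (a', t) • (s a' t : V) := fun a' => by
      simp only [y, dif_neg a'.2, Subtype.coe_eta]
    set S := (Finset.univ.image fun a' : {x : ZMod b // x ≠ 0} => fun _ : Fin 1 => a'.1).filter
      fun w => y w ≠ 0 with hS
    have hzero : ∀ a', y (fun _ => (a' : {x : ZMod b // x ≠ 0}).1) = 0 := by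
      intro a'
      by_contra hne
      refine one_ne_zero (weights_independent hζ (fun _ : Fin 1 => blockOp R e hb 0) y S ?_
        (fun _ => (1 : K)) ?_ (fun _ => a'.1)
        (Finset.mem_filter.2 ⟨Finset.mem_image.2 ⟨a', Finset.mem_univ _, rfl⟩, hne⟩))
      · intro w hw
        obtain ⟨hw1, hw2⟩ := Finset.mem_filter.1 hw
        obtain ⟨a'', -, rfl⟩ := Finset.mem_image.1 hw1
        refine ⟨hw2, fun i => (mem_eig R e hb).1 ?_⟩
        rw [hy]
        exact Submodule.sum_mem _ fun t _ => Submodule.smul_mem _ _ (s a'' t).2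
      · simp only [one_smul]
        rw [hS, Finset.sum_filter_ne_zero, Finset.sum_image (fun x _ x' _ h =>
          Subtype.ext (congrFun h 0))]
        simp only [hy]
        rw [Fintype.sum_prod_type] at hc
        exact hc
    rintro ⟨a', t⟩
    have h0 := hzero a'
    rw [hy] at h0
    exact Fintype.linearIndependent_iff.1 (hs a') (fun t => c (a', t))
      (Subtype.ext (by simpa using h0)) t
  have hcard := hli.fintype_card_le_finrank
  rwa [Fintype.card_prod, Fintype.card_fin, Fintype.card_subtype_compl, ZMod.card,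
    Fintype.card_subtype_eq] at hcard

/-- A vector killed by no shift lies in a nontrivial eigenspace. -/
theorem exists_eig_ne_bot [IsAlgClosed K] [FiniteDimensional K V] (hζ : IsPrimitiveRoot ζ b)
    (hbK : (b : K) ≠ 0) (N : Module.End K V)
    (hcomm : blockOp R e hb 0 * N = N * blockOp R e hb 0)
    (hne : (blockOp R e hb 0 - 1) * N ≠ 0) :
    ∃ a : ZMod b, a ≠ 0 ∧ ∃ v ∈ eig R e hb ζ a, v ≠ 0 ∧ v ∈ LinearMap.range N := by
  set T := blockOp R e hb 0 with hT
  have hc' : (T - 1) * N = N * (T - 1) := by rw [sub_mul, mul_sub, hcomm, one_mul, mul_one]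
  obtain ⟨w, v, hv, hv0, hev⟩ := exists_weight_mem hζ (fun _ : Fin 1 => T) (fun _ _ => rfl)
    (fun _ => blockOp_pow R e hb 0) (LinearMap.range ((T - 1) * N))
    (fun h => hne (LinearMap.range_eq_bot.1 h)) (fun i x hx => by
      obtain ⟨u, rfl⟩ := hx
      refine ⟨T u, ?_⟩
      have h1 : ((T - 1) * N) * T = T * ((T - 1) * N) := by
        rw [mul_assoc, ← hcomm, ← mul_assoc, ← mul_assoc, sub_mul, mul_sub, one_mul, mul_one]
      rw [← Module.End.mul_apply, h1, Module.End.mul_apply])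
  obtain ⟨u, rfl⟩ := hv
  refine ⟨w 0, fun h => hv0 ?_, _, (mem_eig R e hb).2 (hev 0), hv0, ?_⟩
  · exact eq_zero_of_mem_range_sub_one hbK (blockOp_pow R e hb 0)
      (by rw [← hT, hev 0, h]; simp) ⟨N u, rfl⟩
  · exact ⟨(T - 1) u, by rw [← Module.End.mul_apply, ← hc']⟩

end CfsgLib.AltSection
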