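import Cfsg.Agent.AltSection.Weights

/-!
Eigencharacters of commuting operators.
-/

set_option autoImplicit false

namespace CfsgLib.AltSection

open Module

variable {K W : Type*} [Field K] [AddCommGroup W] [Module K W] {ι X : Type*}

/-- Eigenvectors of distinct eigencharacters are independent. -/
theorem linearIndependent_eigen (f : ι → Module.End K W) (v : X → W) (c : X → ι → K)
    (hc : Function.Injective c) (hv : ∀ x, v x ≠ 0) (hev : ∀ x i, f i (v x) = c x i • v x) :
    LinearIndependent K v := by
  classical
  rw [linearIndependent_iff']
  intro s
  induction s using Finset.induction_on with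
  | empty => simp
  | @insert a s has ih =>
    intro g hg
    have key : ∀ i, ∀ x ∈ s, g x * (c x i - c a i) = 0 := by
      intro i
      refine ih _ ?_
      have h1 := congrArg (fun y => f i y - c a i • y) hg
      simp only [map_zero, smul_zero, sub_zero, map_sum, Finset.smul_sum, map_smul,
        ← Finset.sum_sub_distrib] at h1
      rw [Finset.sum_insert has, hev, smul_comm, sub_self, zero_add] at h1
      refine (Finset.sum_congr rfl fun x _ => ?_).trans h1
      rw [hev, mul_sub, sub_smul, smul_smul, smul_smul, mul_comm (c a i)]
    have hs0 : ∀ x ∈ s, g x = 0 := by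
      intro x hx
      by_contra h0
      exact has (hc (funext fun i =>
        sub_eq_zero.1 ((mul_eq_zero.1 (key i x hx)).resolve_left h0)) ▸ hx)
    intro x hx
    rcases Finset.mem_insert.1 hx with rfl | hx
    · rw [Finset.sum_insert has, Finset.sum_eq_zero (fun y hy => by rw [hs0 y hy, zero_smul]),
        add_zero] at hg
      exact (smul_eq_zero.1 hg).resolve_right (hv _)
    · exact hs0 x hx

theorem eigen_count [FiniteDimensional K W] (f : ι → Module.End K W) (v : X → W) (c : X → ι → K)
    (hc : Function.Injective c) (hv : ∀ x, v x ≠ 0) (hev : ∀ x i, f i (v x) = c x i • v x) :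
    Finite X ∧ Nat.card X ≤ finrank K W := by
  have hli := linearIndependent_eigen f v c hc hv hev
  haveI : Finite X := hli.finite
  haveI := Fintype.ofFinite X
  exact ⟨inferInstance, Nat.card_eq_fintype_card (α := X) ▸ hli.fintype_card_le_finrank⟩

end CfsgLib.AltSection
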