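import Mathlib.GroupTheory.OrderOfElement
import Mathlib.GroupTheory.SpecificGroups.Alternating
import Cfsg.Agent.BPres.Carmichael

/-!
Perfect central extensions of the alternating group by a group of order at most two: the lifts of
odd order.
-/

set_option autoImplicit false
set_option linter.style.haveILetI false

namespace CfsgLib.AltSection

open Equiv Equiv.Perm CfsgLib.BPres
open scoped commutatorElement

variable {r : ℕ} {H : Type*} [Group H]

/-- Even permutations carry injective tuples to injective tuples. -/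
theorem exists_even_map {α : Type*} [Fintype α] [DecidableEq α] {m : ℕ}
    (hm : m + 2 ≤ Fintype.card α) (x y : Fin m → α) (hx : Function.Injective x)
    (hy : Function.Injective y) :
    ∃ g : alternatingGroup α, ∀ i, (g : Perm α) (x i) = y i := by
  classical
  let e : {a // a ∈ Set.range x} ≃ {a // a ∈ Set.range y} :=
    (Equiv.ofInjective x hx).symm.trans (Equiv.ofInjective y hy)
  have he : ∀ i, e.extendSubtype (x i) = y i := fun i => by
    rw [Equiv.extendSubtype_apply_of_mem _ _ (Set.mem_range_self i)]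
    simp [e]
  rcases Int.units_eq_one_or (Perm.sign e.extendSubtype) with h | h
  · exact ⟨⟨e.extendSubtype, h⟩, he⟩
  · have hc : 2 ≤ ((Finset.univ.image y)ᶜ).card := by
      rw [Finset.card_compl, Finset.card_image_of_injective _ hy, Finset.card_fin]
      omega
    obtain ⟨u, hu, v, hv, huv⟩ := Finset.one_lt_card.1 (show 1 < ((Finset.univ.image y)ᶜ).card by omega)
    rw [Finset.mem_compl] at hu hv
    refine ⟨⟨swap u v * e.extendSubtype, ?_⟩, fun i => ?_⟩
    · rw [mem_alternatingGroup, map_mul, h, sign_swap huv]; rfl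
    · show swap u v (e.extendSubtype (x i)) = y i
      rw [he]
      exact swap_apply_of_ne_of_ne
        (fun e' => hu (Finset.mem_image.2 ⟨i, Finset.mem_univ i, e'⟩))
        (fun e' => hv (Finset.mem_image.2 ⟨i, Finset.mem_univ i, e'⟩))

/-- A perfect extension of `A_r` by a group of order at most two. -/
structure Cover (r : ℕ) (H : Type*) [Group H] where
  /-- The covering map. -/
  π : H →* alternatingGroup (Fin r)
  surj : Function.Surjective π
  perfect : commutator H = ⊤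
  ker_finite : Finite π.ker
  small : Nat.card π.ker ≤ 2

namespace Cover

variable (C : Cover r H)

theorem eq_of_mem_ker {z w : H} (hz : z ∈ C.π.ker) (hw : w ∈ C.π.ker) (hz1 : z ≠ 1) (hw1 : w ≠ 1) :
    z = w := by
  haveI := C.ker_finite
  by_contra hne
  have h3 : 3 ≤ Nat.card C.π.ker := by
    let f : Fin 3 → C.π.ker := ![1, ⟨z, hz⟩, ⟨w, hw⟩]
    have hf : Function.Injective f := by
      intro i j hij
      fin_cases i <;> fin_cases j <;>
        simp [f, Subtype.ext_iff, hz1, hw1, hne, Ne.symm hz1, Ne.symm hw1, Ne.symm hne] at hij ⊢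
    simpa using Nat.card_le_card_of_injective f hf
  have := C.small
  omega

theorem mul_self_of_mem_ker {z : H} (hz : z ∈ C.π.ker) : z * z = 1 := by
  by_contra h
  have hz1 : z ≠ 1 := fun e => h (by rw [e, one_mul])
  have := C.eq_of_mem_ker (mul_mem hz hz) hz h hz1
  exact hz1 (mul_eq_right.1 this)

theorem ker_comm {z : H} (hz : z ∈ C.π.ker) (g : H) : g * z = z * g := by
  rcases eq_or_ne z 1 with rfl | hz1
  · rw [mul_one, one_mul]
  · have h1 : g * z * g⁻¹ ∈ C.π.ker := Subgroup.Normal.conj_mem inferInstance z hz g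
    have h2 : g * z * g⁻¹ ≠ 1 := fun e => hz1 (conj_eq_one_iff.1 e)
    exact mul_inv_eq_iff_eq_mul.1 (C.eq_of_mem_ker h1 hz h2 hz1)

theorem eq_mul_of_map_eq {x y : H} (h : C.π x = C.π y) : ∃ z ∈ C.π.ker, y = x * z :=
  ⟨x⁻¹ * y, by rw [MonoidHom.mem_ker, map_mul, map_inv, h, inv_mul_cancel],
    (mul_inv_cancel_left x y).symm⟩

theorem exists_lift {σ : alternatingGroup (Fin r)} (hσ : Odd (orderOf σ)) :
    ∃ x : H, C.π x = σ ∧ x ^ orderOf σ = 1 := by
  obtain ⟨x, hx⟩ := C.surj σ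
  have hz : x ^ orderOf σ ∈ C.π.ker := by
    rw [MonoidHom.mem_ker, map_pow, hx, pow_orderOf_eq_one]
  refine ⟨x * x ^ orderOf σ, ?_, ?_⟩
  · rw [map_mul, hx, MonoidHom.mem_ker.1 hz, mul_one]
  · have hc : Commute x (x ^ orderOf σ) := Commute.self_pow x _
    obtain ⟨t, ht⟩ := hσ
    rw [hc.mul_pow]
    have : (x ^ orderOf σ) ^ orderOf σ = x ^ orderOf σ := by
      conv_lhs => arg 2; rw [ht]
      rw [pow_succ, pow_mul, pow_two, C.mul_self_of_mem_ker hz, one_pow, one_mul]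
    rw [this]
    exact C.mul_self_of_mem_ker hz

theorem lift_unique {σ : alternatingGroup (Fin r)} (hσ : Odd (orderOf σ)) {x y : H}
    (hx : C.π x = σ) (hx1 : x ^ orderOf σ = 1) (hy : C.π y = σ) (hy1 : y ^ orderOf σ = 1) :
    x = y := by
  obtain ⟨z, hz, rfl⟩ := C.eq_mul_of_map_eq (hx.trans hy.symm)
  obtain ⟨t, ht⟩ := hσ
  have hc : Commute x z := C.ker_comm hz x
  rw [hc.mul_pow, hx1, one_mul] at hy1
  rw [ht, pow_succ, pow_mul, pow_two, C.mul_self_of_mem_ker hz, one_pow, one_mul] at hy1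
  rw [hy1, mul_one]

open Classical in
/-- The lift of odd order. -/
noncomputable def lift (σ : alternatingGroup (Fin r)) : H :=
  if h : Odd (orderOf σ) then (C.exists_lift h).choose else 1

theorem π_lift {σ : alternatingGroup (Fin r)} (hσ : Odd (orderOf σ)) : C.π (C.lift σ) = σ := by
  rw [lift, dif_pos hσ]; exact (C.exists_lift hσ).choose_spec.1

theorem lift_pow_orderOf {σ : alternatingGroup (Fin r)} (hσ : Odd (orderOf σ)) :
    C.lift σ ^ orderOf σ = 1 := by
  rw [lift, dif_pos hσ]; exact (C.exists_lift hσ).choose_spec.2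

theorem lift_eq {σ : alternatingGroup (Fin r)} (hσ : Odd (orderOf σ)) {x : H} (hx : C.π x = σ)
    (hx1 : x ^ orderOf σ = 1) : C.lift σ = x :=
  C.lift_unique hσ (C.π_lift hσ) (C.lift_pow_orderOf hσ) hx hx1

theorem lift_one : C.lift 1 = 1 :=
  C.lift_eq (by simp) (map_one _) (one_pow _)

theorem lift_conj {σ : alternatingGroup (Fin r)} (hσ : Odd (orderOf σ)) (h : H) :
    h * C.lift σ * h⁻¹ = C.lift (C.π h * σ * (C.π h)⁻¹) := by
  have ho : orderOf (C.π h * σ * (C.π h)⁻¹) = orderOf σ := by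
    simpa using orderOf_injective (MulAut.conj (C.π h)).toMonoidHom
      (MulAut.conj (C.π h)).injective σ
  refine (C.lift_eq (ho ▸ hσ) ?_ ?_).symm
  · rw [map_mul, map_mul, map_inv, C.π_lift hσ]
  · rw [ho, conj_pow, C.lift_pow_orderOf hσ, mul_one, mul_inv_cancel]

theorem lift_commute {σ : alternatingGroup (Fin r)} (hσ : Odd (orderOf σ)) {h : H}
    (hc : Commute (C.π h) σ) : Commute h (C.lift σ) := by
  have := C.lift_conj hσ h
  rw [hc.eq, mul_inv_cancel_right] at this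
  exact mul_inv_eq_iff_eq_mul.1 this

theorem lift_pow {σ : alternatingGroup (Fin r)} (hσ : Odd (orderOf σ)) (j : ℕ) :
    C.lift (σ ^ j) = C.lift σ ^ j := by
  have hd : orderOf (σ ^ j) ∣ orderOf σ := orderOf_pow_dvd j
  refine C.lift_eq (hσ.of_dvd_nat hd) (by rw [map_pow, C.π_lift hσ]) ?_
  obtain ⟨z, hz, hzz⟩ : ∃ z, z ∈ C.π.ker ∧ (C.lift σ ^ j) ^ orderOf (σ ^ j) = z :=
    ⟨_, by rw [MonoidHom.mem_ker, map_pow, map_pow, C.π_lift hσ, pow_orderOf_eq_one], rfl⟩
  obtain ⟨c, hc⟩ := hd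
  have h1 : z ^ c = 1 := by
    rw [← hzz, ← pow_mul, ← hc, ← pow_mul, mul_comm, pow_mul, C.lift_pow_orderOf hσ, one_pow]
  have hcodd : Odd c := hσ.of_dvd_nat ⟨_, by rw [hc]; ring⟩
  obtain ⟨t, rfl⟩ := hcodd
  rw [pow_succ, pow_mul, pow_two, C.mul_self_of_mem_ker hz, one_pow, one_mul] at h1
  rw [hzz, h1]

section Three

/-- The lift of the cycle `(a b i)`. -/
noncomputable def tl (a b i : Fin r) : H := C.lift (cyc a b i)

variable {a b i j : Fin r}

theorem odd_orderOf_cyc (hab : a ≠ b) (hai : a ≠ i) (hbi : b ≠ i) :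
    Odd (orderOf (cyc a b i)) := by
  have h := orderOf_dvd_of_pow_eq_one (cyc_cube hab hai hbi)
  exact (by decide : Odd 3).of_dvd_nat h

theorem π_tl (hab : a ≠ b) (hai : a ≠ i) (hbi : b ≠ i) : C.π (C.tl a b i) = cyc a b i :=
  C.π_lift (odd_orderOf_cyc hab hai hbi)

theorem tl_cube (hab : a ≠ b) (hai : a ≠ i) (hbi : b ≠ i) : C.tl a b i ^ 3 = 1 := by
  have h := orderOf_dvd_of_pow_eq_one (cyc_cube hab hai hbi)
  obtain ⟨c, hc⟩ := h
  rw [hc, pow_mul, tl, C.lift_pow_orderOf (odd_orderOf_cyc hab hai hbi), one_pow]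

theorem tl_conj (hab : a ≠ b) (hai : a ≠ i) (hbi : b ≠ i) (h : H) :
    h * C.tl a b i * h⁻¹ =
      C.tl ((C.π h : Perm (Fin r)) a) ((C.π h : Perm (Fin r)) b) ((C.π h : Perm (Fin r)) i) := by
  rw [tl, C.lift_conj (odd_orderOf_cyc hab hai hbi), cyc_conj _ hab hai, tl]

theorem closure_tl {a b : Fin r} (hab : a ≠ b) :
    Subgroup.closure {x : H | ∃ i, i ≠ a ∧ i ≠ b ∧ x = C.tl a b i} = ⊤ := by
  set S := Subgroup.closure {x : H | ∃ i, i ≠ a ∧ i ≠ b ∧ x = C.tl a b i}
  have hmap : S.map C.π = ⊤ := by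
    rw [eq_top_iff, ← closure_cyc hab, Subgroup.closure_le]
    rintro _ ⟨i, h1, h2, rfl⟩
    exact ⟨_, Subgroup.subset_closure ⟨i, h1, h2, rfl⟩, C.π_tl hab h1.symm h2.symm⟩
  have hdec : ∀ g : H, ∃ s ∈ S, ∃ z ∈ C.π.ker, g = s * z := fun g => by
    obtain ⟨s, hs, he⟩ := (hmap.symm ▸ Subgroup.mem_top (C.π g) : C.π g ∈ S.map C.π)
    obtain ⟨z, hz, rfl⟩ := C.eq_mul_of_map_eq he
    exact ⟨s, hs, z, hz, rfl⟩
  rw [eq_top_iff, ← C.perfect, commutator_def, Subgroup.commutator_le]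
  intro g _ g' _
  obtain ⟨s, hs, z, hz, rfl⟩ := hdec g
  obtain ⟨s', hs', z', hz', rfl⟩ := hdec g'
  have this : ⁅s * z, s' * z'⁆ = ⁅s, s'⁆ := by
    simp only [commutatorElement_def, mul_inv_rev]
    calc s * z * (s' * z') * (z⁻¹ * s⁻¹) * (z'⁻¹ * s'⁻¹)
        = s * (z * (s' * z') * z⁻¹) * s⁻¹ * (z'⁻¹ * s'⁻¹) := by group
      _ = s * (s' * z') * s⁻¹ * (z'⁻¹ * s'⁻¹) := by rw [← C.ker_comm hz, mul_inv_cancel_right]
      _ = s * s' * (z' * s⁻¹) * z'⁻¹ * s'⁻¹ := by group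
      _ = s * s' * s⁻¹ * s'⁻¹ := by rw [← C.ker_comm hz' s⁻¹, ← mul_assoc, mul_inv_cancel_right]
  rw [commutatorElement_def] at this ⊢
  rw [this]
  exact mul_mem (mul_mem (mul_mem hs hs') (inv_mem hs)) (inv_mem hs')

/-- If the extension does not split, products of overlapping lifts do not square to one. -/
theorem sq_ne_one (hr : 6 ≤ r) (hne : C.π.ker ≠ ⊥) (hab : a ≠ b) (hai : a ≠ i) (haj : a ≠ j)
    (hbi : b ≠ i) (hbj : b ≠ j) (hij : i ≠ j) : (C.tl a b i * C.tl a b j) ^ 2 ≠ 1 := by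
  intro h1
  have key : ∀ i' j', i' ≠ a → i' ≠ b → j' ≠ a → j' ≠ b → i' ≠ j' →
      (C.tl a b i' * C.tl a b j') ^ 2 = 1 := by
    intro i' j' hi1 hi2 hj1 hj2 hij'
    obtain ⟨g, hg⟩ := exists_even_map (m := 4) (by rw [Fintype.card_fin]; omega) ![a, b, i, j]
      ![a, b, i', j'] (by intro x y hxy; fin_cases x <;> fin_cases y <;>
        simp_all [Ne.symm hab, Ne.symm hai, Ne.symm haj, Ne.symm hbi, Ne.symm hbj, Ne.symm hij])
      (by intro x y hxy; fin_cases x <;> fin_cases y <;>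
        simp_all [Ne.symm hab, Ne.symm hi1, Ne.symm hi2, Ne.symm hj1, Ne.symm hj2, Ne.symm hij'])
    obtain ⟨h, hh⟩ := C.surj g
    have e0 := hg 0; have e1 := hg 1; have e2 := hg 2; have e3 := hg 3
    simp only [Matrix.cons_val] at e0 e1 e2 e3
    have := congrArg (fun x => h * x * h⁻¹) h1
    simp only [mul_one, mul_inv_cancel] at this
    rw [← conj_pow, ← conj_mul, C.tl_conj hab hai hbi, C.tl_conj hab haj hbj, hh, e0, e1, e2, e3]
      at this
    exact this
  obtain ⟨φ, hφ⟩ := carmichael hab (fun i => C.tl a b i)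
    (fun i h1 h2 => C.tl_cube hab h1.symm h2.symm) key
  have hcomp : C.π.comp φ = MonoidHom.id _ :=
    hom_ext_cyc hab fun i h1 h2 => by
      rw [MonoidHom.comp_apply, hφ i h1 h2, MonoidHom.id_apply, C.π_tl hab h1.symm h2.symm]
  have hsurj : φ.range = ⊤ := by
    rw [eq_top_iff, ← C.closure_tl hab, Subgroup.closure_le]
    rintro _ ⟨i, h1, h2, rfl⟩
    exact ⟨_, hφ i h1 h2⟩
  refine hne ((Subgroup.eq_bot_iff_forall _).2 fun z hz => ?_)
  obtain ⟨σ, rfl⟩ := (hsurj.symm ▸ Subgroup.mem_top z : z ∈ φ.range)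
  have : σ = 1 := (DFunLike.congr_fun hcomp σ).symm.trans (MonoidHom.mem_ker.1 hz)
  rw [this, map_one]

end Three

end Cover

end CfsgLib.AltSection
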