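import Cfsg.Agent.AltSection.Core
import Cfsg.Agent.AltSection.Eigenchar
import Cfsg.Agent.CoxRot.Alt

/-!
From linear groups with an alternating section to spin representations.
-/

set_option autoImplicit false

namespace CfsgLib.AltSection

open Equiv Equiv.Perm Module CfsgLib.BPres
open scoped commutatorElement

/-- The bound in degree `n`, for every characteristic. -/
def Good (r n : ℕ) : Prop :=
  ∀ (p : ℕ) [Fact p.Prime] (K : Type) [Field K] [IsAlgClosed K] [CharP K p] (H : Type) [Group H]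
    [Finite H] (π : H →* alternatingGroup (Fin r)) (V : Type) [AddCommGroup V] [Module K V]
    [FiniteDimensional K V] (ρ : H →* Module.End K V),
    Function.Surjective π → ρ.ker ≤ π.ker → finrank K V = n →
      r - 1 - (if p ∣ r then 1 else 0) ≤ n

section

variable {r : ℕ} {H : Type} [Group H] {π : H →* alternatingGroup (Fin r)}
  {K V : Type} [Field K] [AddCommGroup V] [Module K V] (ρ : H →* Module.End K V)

theorem rho_inv_apply (h : H) (v : V) : ρ h⁻¹ (ρ h v) = v := by
  rw [← Module.End.mul_apply, ← map_mul, inv_mul_cancel, map_one, Module.End.one_apply]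

theorem rho_injective_apply (h : H) : Function.Injective (ρ h) :=
  fun x y e => by rw [← rho_inv_apply ρ h x, e, rho_inv_apply]

theorem rho_ne_zero [Nontrivial V] (h : H) : ρ h ≠ 0 := fun e => by
  obtain ⟨v, hv⟩ := exists_ne (0 : V)
  exact hv (rho_injective_apply ρ h (a₁ := v) (a₂ := 0) (by simp [e]))

/-- The elements acting by scalars. -/
def scalars : Subgroup H where
  carrier := {h | ∃ c : K, ρ h = c • 1}
  one_mem' := ⟨1, by rw [map_one, one_smul]⟩
  mul_mem' := by
    rintro x y ⟨c, hc⟩ ⟨d, hd⟩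
    exact ⟨c * d, by rw [map_mul, hc, hd, smul_mul_smul_comm, one_mul]⟩
  inv_mem' := by
    rintro x ⟨c, hc⟩
    refine ⟨c⁻¹, LinearMap.ext fun v => ?_⟩
    have h := rho_inv_apply ρ x v
    rw [hc, LinearMap.smul_apply, Module.End.one_apply, map_smul] at h
    rcases eq_or_ne c 0 with h0 | h0
    · rw [h0, zero_smul] at h
      simp [← h]
    · rw [LinearMap.smul_apply, Module.End.one_apply]
      conv_rhs => rw [← h]
      rw [inv_smul_smul₀ h0]

theorem mem_scalars {h : H} : h ∈ scalars ρ ↔ ∃ c : K, ρ h = c • 1 := Iff.rfl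

instance scalars_normal : (scalars ρ).Normal where
  conj_mem := by
    rintro x ⟨c, hc⟩ g
    exact ⟨c, by rw [map_mul, map_mul, hc, mul_smul_comm, mul_one, smul_mul_assoc, ← map_mul,
      mul_inv_cancel, map_one]⟩

theorem perm_card_bound {m : ℕ} (hr : 9 ≤ r) (hle : r.factorial ≤ 2 * m.factorial) : r ≤ m := by
  by_contra h
  obtain ⟨r', rfl⟩ : ∃ r', r = r' + 1 := ⟨r - 1, by omega⟩
  have h1 := Nat.factorial_le (show m ≤ r' by omega)
  rw [Nat.factorial_succ] at hle
  have h2 : 3 * r'.factorial ≤ (r' + 1) * r'.factorial := Nat.mul_le_mul_right _ (by omega)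
  have := r'.factorial_pos
  omega

theorem card_le_of_ker_le [Finite H] {M : Type*} [Group M] [Finite M] (hπ : Function.Surjective π)
    (hr : 2 ≤ r) (θ : H →* M) (hθ : θ.ker ≤ π.ker) : r.factorial ≤ 2 * Nat.card M := by
  haveI : Nontrivial (Fin r) := Fin.nontrivial_iff_two_le.2 hr
  have h1 : θ.ker.index ≠ 0 := Subgroup.index_ne_zero_of_finite
  have h2 := Nat.le_of_dvd (Nat.pos_of_ne_zero h1) (Subgroup.index_dvd_of_le hθ)
  rw [Subgroup.index_ker, Subgroup.index_ker, MonoidHom.range_eq_top.2 hπ, Subgroup.card_top] at h2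
  have h3 := Subgroup.card_le_card_group θ.range
  have h4 : 2 * Nat.card (alternatingGroup (Fin r)) = r.factorial := by
    rw [two_mul_nat_card_alternatingGroup, Nat.card_perm, Nat.card_eq_fintype_card, Fintype.card_fin]
  omega

theorem not_all_commute (hr : 5 ≤ r) (h : ∀ x y : alternatingGroup (Fin r), x * y = y * x) :
    False := by
  set a : Fin r := ⟨0, by omega⟩
  set b : Fin r := ⟨1, by omega⟩
  set i : Fin r := ⟨2, by omega⟩
  set j : Fin r := ⟨3, by omega⟩
  have hab : a ≠ b := by simp [a, b]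
  have hai : a ≠ i := by simp [a, i]
  have haj : a ≠ j := by simp [a, j]
  have hbi : b ≠ i := by simp [b, i]
  have hbj : b ≠ j := by simp [b, j]
  have hij : i ≠ j := by simp [i, j]
  have h' := congrArg (fun g : alternatingGroup (Fin r) => (g : Perm (Fin r)) a)
    (h (cyc a b i) (cyc a b j))
  simp only [Subgroup.coe_mul, Perm.mul_apply, cyc_apply_a hab hai hbi, cyc_apply_a hab haj hbj,
    cyc_apply_b hab hai, cyc_apply_b hab haj] at h'
  exact hij h'

variable (hirr : ∀ W : Submodule K V, (∀ h, ∀ v ∈ W, ρ h v ∈ W) → W = ⊥ ∨ W = ⊤)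

include hirr in
/-- An element commuting with all the operators is a scalar. -/
theorem mem_scalars_of_commute [IsAlgClosed K] [FiniteDimensional K V] [Nontrivial V] {q : H}
    (hq : ∀ h, ρ h * ρ q = ρ q * ρ h) : q ∈ scalars ρ := by
  obtain ⟨μ, hμ⟩ := Module.End.exists_eigenvalue (ρ q)
  refine ⟨μ, ?_⟩
  have htop : (ρ q).eigenspace μ = ⊤ := by
    refine (hirr _ fun h v hv => ?_).resolve_left hμ
    rw [Module.End.mem_eigenspace_iff] at hv ⊢
    rw [← Module.End.mul_apply, ← hq, Module.End.mul_apply, hv, map_smul]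
  refine LinearMap.ext fun v => ?_
  have hv : v ∈ (ρ q).eigenspace μ := htop ▸ Submodule.mem_top
  rw [Module.End.mem_eigenspace_iff] at hv
  rw [hv]; rfl

include hirr in
/-- A normal subgroup of the kernel with commuting images acts by scalars, or `r ≤ dim V`. -/
theorem comm_normal [IsAlgClosed K] [FiniteDimensional K V] [Nontrivial V] [Finite H]
    (hπ : Function.Surjective π) (hr : 9 ≤ r)
    (hN : ∀ N : Subgroup H, N.Normal → N ≤ π.ker ∨ N = ⊤) (A : Subgroup H) [A.Normal]
    (hA : ∀ a ∈ A, ∀ b ∈ A, ρ a * ρ b = ρ b * ρ a) :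
    A ≤ scalars ρ ∨ r ≤ finrank K V := by
  classical
  by_cases hs : A ≤ scalars ρ
  · exact Or.inl hs
  refine Or.inr ?_
  let X := {c : A → K // ∃ v : V, v ≠ 0 ∧ ∀ a : A, ρ a v = c a • v}
  obtain ⟨hfin, hle⟩ := eigen_count (X := X) (fun a : A => ρ a) (fun x => x.2.choose) (fun x => x.1)
    Subtype.val_injective (fun x => x.2.choose_spec.1) fun x => x.2.choose_spec.2
  haveI := hfin
  have hact : ∀ (h : H) (x : X), ∃ v : V, v ≠ 0 ∧
      ∀ a : A, ρ a v = x.1 ⟨h⁻¹ * a * h, ‹A.Normal›.conj_mem' (a : H) a.2 h⟩ • v := by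
    intro h x
    obtain ⟨v, hv0, hv⟩ := x.2
    refine ⟨ρ h v, fun e => hv0 (rho_injective_apply ρ h (e.trans (map_zero _).symm)), fun a => ?_⟩
    have h' := hv ⟨h⁻¹ * a * h, ‹A.Normal›.conj_mem' (a : H) a.2 h⟩
    rw [← Module.End.mul_apply, ← map_mul, show (a : H) * h = h * (h⁻¹ * a * h) by group, map_mul,
      Module.End.mul_apply, h', map_smul]
  let act : H → X → X := fun h x => ⟨_, hact h x⟩
  have hmul : ∀ g h x, act (g * h) x = act g (act h x) := fun g h x =>
    Subtype.ext (funext fun a => congrArg x.1 (Subtype.ext (by simp [mul_assoc])))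
  have hone : ∀ x, act 1 x = x := fun x =>
    Subtype.ext (funext fun a => congrArg x.1 (Subtype.ext (by simp)))
  let θ : H →* Equiv.Perm X :=
    { toFun := fun h => ⟨act h, act h⁻¹, fun x => by rw [← hmul, inv_mul_cancel, hone],
        fun x => by rw [← hmul, mul_inv_cancel, hone]⟩
      map_one' := Equiv.ext hone
      map_mul' := fun g h => Equiv.ext (hmul g h) }
  rcases hN θ.ker inferInstance with hk | hk
  · have h1 := card_le_of_ker_le hπ (by omega) θ hk
    rw [Nat.card_perm] at h1
    exact (perm_card_bound hr h1).trans hle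
  · exfalso
    haveI := Fintype.ofFinite A
    obtain ⟨v, -, hv0, hv⟩ := exists_common_eigenvec (Finset.univ : Finset A) (fun a : A => ρ a)
      (fun a b => hA a a.2 b b.2) ⊤ top_ne_bot fun _ _ _ _ => Submodule.mem_top
    choose μ hμ using fun a : A => hv a (Finset.mem_univ a)
    let x : X := ⟨μ, v, hv0, hμ⟩
    let W : Submodule K V := ⨅ a : A, (ρ a).eigenspace (μ a)
    have hmem : ∀ u, u ∈ W ↔ ∀ a : A, ρ a u = μ a • u := fun u => by
      simp [W, Submodule.mem_iInf, Module.End.mem_eigenspace_iff]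
    have htop : W = ⊤ := by
      refine (hirr W fun h u hu => ?_).resolve_left fun e => hv0 ?_
      · rw [hmem] at hu ⊢
        intro a
        have hx : act h x = x := Equiv.ext_iff.1 (show θ h = 1 from
          (hk ▸ Subgroup.mem_top h : h ∈ θ.ker)) x
        have ha : μ ⟨h⁻¹ * a * h, ‹A.Normal›.conj_mem' (a : H) a.2 h⟩ = μ a :=
          congrFun (congrArg Subtype.val hx) a
        rw [← Module.End.mul_apply, ← map_mul, show (a : H) * h = h * (h⁻¹ * a * h) by group,
          map_mul, Module.End.mul_apply, hu ⟨_, ‹A.Normal›.conj_mem' (a : H) a.2 h⟩,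
          map_smul, ha]
      · rw [← Submodule.mem_bot K, ← e, hmem]; exact hμ
    refine hs fun a ha => ⟨μ ⟨a, ha⟩, LinearMap.ext fun u => ?_⟩
    have hu : u ∈ W := htop ▸ Submodule.mem_top
    rw [(hmem u).1 hu ⟨a, ha⟩]; rfl

end

theorem sq_lt_two_pow : ∀ {n : ℕ}, 5 ≤ n → n * n < 2 ^ n := by
  intro n hn
  induction n, hn using Nat.le_induction with
  | base => norm_num
  | succ k hk ih => rw [pow_succ]; nlinarith

theorem sq_lt_three_pow : ∀ n : ℕ, n * n < 3 ^ n
  | 0 => by norm_num
  | 1 => by norm_num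
  | n + 2 => by
    have ih := sq_lt_three_pow (n + 1)
    rw [pow_succ]; nlinarith

/-- Normal `s`-subgroups of the kernel that are not scalar. -/
theorem pgroup_case {r n : ℕ} (hr : 9 ≤ r) (IH : ∀ m < n, Good r m) {H : Type} [Group H] [Finite H]
    {π : H →* alternatingGroup (Fin r)} (hπ : Function.Surjective π)
    (hN : ∀ N : Subgroup H, N.Normal → N ≤ π.ker ∨ N = ⊤) (hperf : commutator H = ⊤)
    {K V : Type} [Field K] [IsAlgClosed K] [AddCommGroup V] [Module K V] [FiniteDimensional K V]
    [Nontrivial V] (hn : finrank K V = n) (ρ : H →* Module.End K V)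
    (hirr : ∀ W : Submodule K V, (∀ h, ∀ v ∈ W, ρ h v ∈ W) → W = ⊥ ∨ W = ⊤)
    {s : ℕ} [Fact s.Prime] (Q₀ : Subgroup H) [Q₀.Normal] (hQ₀ : IsPGroup s Q₀)
    (hQ₀s : ¬ Q₀ ≤ scalars ρ) : r - 1 ≤ n := by
  classical
  by_contra hlt
  push Not at hlt
  have habel : ∀ A : Subgroup H, A.Normal → (∀ a ∈ A, ∀ b ∈ A, ρ a * ρ b = ρ b * ρ a) →
      A ≤ scalars ρ := fun A hA hcomm =>
    (@comm_normal r H _ π K V _ _ _ ρ hirr _ _ _ _ hπ hr hN A hA hcomm).resolve_right (by omega)
  -- a least such subgroup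
  let S : Set ℕ := {c | ∃ Q : Subgroup H, Q.Normal ∧ IsPGroup s Q ∧ ¬ Q ≤ scalars ρ ∧ Nat.card Q = c}
  have hS : S.Nonempty := ⟨_, Q₀, inferInstance, hQ₀, hQ₀s, rfl⟩
  obtain ⟨Q, hQn, hQp, hQs, hQc⟩ : sInf S ∈ S := Nat.sInf_mem hS
  haveI := hQn
  have hmin : ∀ D : Subgroup H, D.Normal → IsPGroup s D → Nat.card D < Nat.card Q →
      D ≤ scalars ρ := fun D hD hDp hlt => by
    by_contra h
    have : sInf S ≤ Nat.card D := Nat.sInf_le ⟨D, hD, hDp, h, rfl⟩
    omega
  -- a maximal subgroup
  obtain ⟨k, hk⟩ := IsPGroup.iff_card.1 hQp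
  obtain ⟨k, rfl⟩ : ∃ k', k = k' + 1 := by
    refine ⟨k - 1, ?_⟩
    rcases Nat.eq_zero_or_pos k with h0 | h0
    · rw [h0, pow_zero, Subgroup.card_eq_one] at hk
      exact absurd (hk ▸ bot_le) hQs
    · omega
  obtain ⟨M, hM⟩ := Sylow.exists_subgroup_card_pow_prime (G := Q) s (n := k)
    (hk ▸ pow_dvd_pow s (Nat.le_succ k))
  have hs0 : s ≠ 0 := (Fact.out : s.Prime).ne_zero
  have hMi : M.index = s := by
    have h := M.card_mul_index
    rw [hM, hk, pow_succ] at h
    exact mul_left_cancel₀ (pow_ne_zero _ hs0) h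
  haveI hMn : M.Normal := Subgroup.normal_of_index_eq_minFac_card (by
    rw [hMi, hk, Nat.Prime.pow_minFac Fact.out (Nat.succ_ne_zero k)])
  haveI hcyc : IsCyclic (Q ⧸ M) := isCyclic_of_prime_card (p := s) hMi
  -- powers and commutators
  let gens : Set H :=
    {x | ∃ q ∈ Q, x = q ^ s} ∪ {x | ∃ q ∈ Q, ∃ q' ∈ Q, x = ⁅q, q'⁆}
  let D := Subgroup.closure gens
  have hDM : D ≤ M.map Q.subtype := by
    rw [Subgroup.closure_le]
    rintro x (⟨q, hq, rfl⟩ | ⟨q, hq, q', hq', rfl⟩)
    · refine ⟨⟨q, hq⟩ ^ s, ?_, rfl⟩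
      rw [SetLike.mem_coe, ← QuotientGroup.eq_one_iff, QuotientGroup.mk_pow]
      have hc : Nat.card (Q ⧸ M) = s := hMi
      conv_lhs => arg 2; rw [← hc]
      exact pow_card_eq_one'
    · refine ⟨⁅(⟨q, hq⟩ : Q), ⟨q', hq'⟩⁆, ?_, rfl⟩
      rw [SetLike.mem_coe, ← QuotientGroup.eq_one_iff]
      show (QuotientGroup.mk' M) ⁅(⟨q, hq⟩ : Q), ⟨q', hq'⟩⁆ = 1
      rw [map_commutatorElement, commutatorElement_eq_one_iff_mul_comm]
      letI := hcyc.commGroup
      exact mul_comm _ _
  haveI hDn : D.Normal := by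
    constructor
    intro x hx g
    have : D.map (MulAut.conj g).toMonoidHom ≤ D := by
      rw [MonoidHom.map_closure, Subgroup.closure_le]
      rintro _ ⟨y, hy, rfl⟩
      refine Subgroup.subset_closure ?_
      rcases hy with ⟨q, hq, rfl⟩ | ⟨q, hq, q', hq', rfl⟩
      · exact Or.inl ⟨g * q * g⁻¹, hQn.conj_mem q hq g, by simp [conj_pow]⟩
      · refine Or.inr ⟨g * q * g⁻¹, hQn.conj_mem q hq g, g * q' * g⁻¹, hQn.conj_mem q' hq' g, ?_⟩
        exact map_commutatorElement (MulAut.conj g).toMonoidHom q q'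
    exact this ⟨x, hx, rfl⟩
  have hDQ : D ≤ Q := hDM.trans (Subgroup.map_subtype_le M)
  have hDs : D ≤ scalars ρ := by
    refine hmin D hDn (hQp.to_le hDQ) ?_
    have h1 := Subgroup.card_le_of_le hDM
    rw [Subgroup.card_map_of_injective Q.subtype_injective, hM] at h1
    rw [hk, pow_succ]
    have h2 : 0 < s ^ k := pow_pos (Nat.pos_of_ne_zero hs0) k
    have h3 : 2 ≤ s := (Fact.out : s.Prime).two_le
    nlinarith
  -- the quotient by the scalars
  let Z : Subgroup Q := (scalars ρ).subgroupOf Q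
  let U := Q ⧸ Z
  have hUc : ∀ x y : U, x * y = y * x := by
    intro x y
    induction x using QuotientGroup.induction_on with
    | H a =>
      induction y using QuotientGroup.induction_on with
      | H b =>
        rw [← QuotientGroup.mk_mul, ← QuotientGroup.mk_mul, eq_comm, QuotientGroup.eq,
          Subgroup.mem_subgroupOf]
        refine hDs (Subgroup.subset_closure (Or.inr ⟨(a : H)⁻¹, Q.inv_mem a.2, (b : H)⁻¹,
          Q.inv_mem b.2, ?_⟩))
        simp [commutatorElement_def, mul_assoc]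
  have hUs : ∀ x : U, x ^ s = 1 := by
    intro x
    induction x using QuotientGroup.induction_on with
    | H a =>
      rw [← QuotientGroup.mk_pow, QuotientGroup.eq_one_iff, Subgroup.mem_subgroupOf]
      exact hDs (Subgroup.subset_closure (Or.inl ⟨a, a.2, rfl⟩))
  -- counting
  have hswap : ∀ (u : U) (x : Q), ∃ c : K,
      ρ x * ρ ((u.out : Q) : H) * ρ (x : H)⁻¹ = c • ρ ((u.out : Q) : H) := by
    intro u x
    obtain ⟨c, hc⟩ := (mem_scalars ρ).1
      (hDs (Subgroup.subset_closure (Or.inr ⟨(x : H), x.2, (u.out : Q), (u.out : Q).2, rfl⟩)))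
    refine ⟨c, ?_⟩
    rw [← map_mul, ← map_mul,
      show (x : H) * (u.out : Q) * (x : H)⁻¹ = ⁅(x : H), ((u.out : Q) : H)⁆ * (u.out : Q) by
        simp [commutatorElement_def],
      map_mul, hc, smul_mul_assoc, one_mul]
  choose χ hχ using hswap
  let conjOp : Q → Module.End K (Module.End K V) := fun x =>
    LinearMap.mulLeft K (ρ x) ∘ₗ LinearMap.mulRight K (ρ (x : H)⁻¹)
  obtain ⟨hUfin, hUle⟩ := eigen_count (X := U) conjOp (fun u => ρ ((u.out : Q) : H)) χ
    (by
      intro u u' huu
      set q : H := ((u.out : Q) : H)⁻¹ * (u'.out : Q)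
      let A : Subgroup H :=
        { carrier := {y | y ∈ Q ∧ ∀ x ∈ Q, ρ x * ρ y = ρ y * ρ x}
          one_mem' := ⟨Q.one_mem, fun x _ => by simp⟩
          mul_mem' := fun {y y'} h h' => ⟨Q.mul_mem h.1 h'.1, fun x hx => by
            rw [map_mul, ← mul_assoc, h.2 x hx, mul_assoc, h'.2 x hx, mul_assoc]⟩
          inv_mem' := fun {y} h => ⟨Q.inv_mem h.1, fun x hx => by
            have e1 : ρ y⁻¹ * ρ y = 1 := by rw [← map_mul, inv_mul_cancel, map_one]
            have e2 : ρ y * ρ y⁻¹ = 1 := by rw [← map_mul, mul_inv_cancel, map_one]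
            calc ρ x * ρ y⁻¹ = ρ y⁻¹ * (ρ y * ρ x) * ρ y⁻¹ := by rw [← mul_assoc, e1, one_mul]
              _ = ρ y⁻¹ * ρ x := by rw [← h.2 x hx, mul_assoc, mul_assoc, e2, mul_one]⟩ }
      have hAn : A.Normal := ⟨fun y hy g => ⟨hQn.conj_mem y hy.1 g, fun x hx => by
        have h : ρ ((g⁻¹ * x * g) * y) = ρ (y * (g⁻¹ * x * g)) := by
          rw [map_mul ρ (g⁻¹ * x * g) y, map_mul ρ y (g⁻¹ * x * g)]
          exact hy.2 _ (hQn.conj_mem' x hx g)
        rw [← map_mul, ← map_mul, show x * (g * y * g⁻¹) = g * ((g⁻¹ * x * g) * y) * g⁻¹ by group,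
          show (g * y * g⁻¹) * x = g * (y * (g⁻¹ * x * g)) * g⁻¹ by group,
          map_mul ρ (g * ((g⁻¹ * x * g) * y)) g⁻¹, map_mul ρ g, h, ← map_mul, ← map_mul]⟩⟩
      have hqA : q ∈ A := by
        refine ⟨Q.mul_mem (Q.inv_mem u.out.2) u'.out.2, fun x hx => ?_⟩
        have h1 := hχ u ⟨x, hx⟩
        have h2 := hχ u' ⟨x, hx⟩
        rw [← congrFun huu ⟨x, hx⟩] at h2
        set c := χ u ⟨x, hx⟩
        set a := ((u.out : Q) : H)
        set a' := ((u'.out : Q) : H)
        have e1 : ρ x⁻¹ * ρ x = 1 := by rw [← map_mul, inv_mul_cancel, map_one]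
        have e2 : ρ a⁻¹ * ρ a = 1 := by rw [← map_mul, inv_mul_cancel, map_one]
        have e3 : ρ a * ρ a⁻¹ = 1 := by rw [← map_mul, mul_inv_cancel, map_one]
        have h1' : ρ x * ρ a = c • (ρ a * ρ x) := by
          rw [← smul_mul_assoc, ← h1, mul_assoc _ (ρ x⁻¹), e1, mul_one]
        have h2' : ρ x * ρ a' = c • (ρ a' * ρ x) := by
          rw [← smul_mul_assoc, ← h2, mul_assoc _ (ρ x⁻¹), e1, mul_one]
        have h3 : c • (ρ x * ρ a⁻¹) = ρ a⁻¹ * ρ x := by
          calc c • (ρ x * ρ a⁻¹) = ρ a⁻¹ * (c • (ρ a * ρ x)) * ρ a⁻¹ := by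
                rw [mul_smul_comm, smul_mul_assoc, ← mul_assoc, e2, one_mul]
            _ = ρ a⁻¹ * ρ x := by rw [← h1', mul_assoc, mul_assoc, e3, mul_one]
        rw [map_mul]
        calc ρ x * (ρ a⁻¹ * ρ a') = ρ x * ρ a⁻¹ * ρ a' := (mul_assoc _ _ _).symm
          _ = ρ a⁻¹ * ρ a' * ρ x := by
            rcases eq_or_ne c 0 with h0 | h0
            · rw [h0, zero_smul] at h1'
              exact absurd (by rw [map_mul]; exact h1') (rho_ne_zero ρ (x * a))
            · rw [← inv_smul_smul₀ h0 (ρ x * ρ a⁻¹), h3, smul_mul_assoc, mul_assoc, h2',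
                mul_smul_comm, inv_smul_smul₀ h0, mul_assoc]
      have hqs : q ∈ scalars ρ :=
        habel A hAn (fun y hy y' hy' => hy'.2 y hy.1) hqA
      rw [← QuotientGroup.out_eq' u, ← QuotientGroup.out_eq' u', QuotientGroup.eq,
        Subgroup.mem_subgroupOf]
      exact hqs)
    (fun u => rho_ne_zero ρ _) (fun u x => by
      simp only [conjOp, LinearMap.comp_apply, LinearMap.mulLeft_apply, LinearMap.mulRight_apply,
        ← mul_assoc]
      exact hχ u x)
  haveI := hUfin
  rw [Module.finrank_linearMap, hn] at hUle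
  -- the linear action
  letI : CommGroup U := { (inferInstance : Group U) with mul_comm := hUc }
  haveI : Module (ZMod s) (Additive U) := AddCommGroup.zmodModule fun x =>
    Additive.toMul.injective (by rw [toMul_nsmul, toMul_zero]; exact hUs _)
  haveI : Module.Finite (ZMod s) (Additive U) := Module.Finite.of_finite
  let cj : H → (U →* U) := fun h => QuotientGroup.map Z Z (MulAut.conjNormal h).toMonoidHom
    (fun q hq => by
      rw [Subgroup.mem_comap, Subgroup.mem_subgroupOf, MulEquiv.coe_toMonoidHom,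
        MulAut.conjNormal_apply]
      exact (scalars_normal ρ).conj_mem q hq h)
  let θ₀ : H → Module.End (ZMod s) (Additive U) :=
    fun h => (MonoidHom.toAdditive (cj h)).toZModLinearMap s
  have hex' : ∀ x : Additive U, ∃ q : Q, Additive.ofMul (q : U) = x := fun x =>
    ⟨_, congrArg Additive.ofMul (QuotientGroup.out_eq' x.toMul)⟩
  have h10 : θ₀ 1 = 1 := LinearMap.ext fun x => by
    obtain ⟨q, rfl⟩ := hex' x
    have A1 : θ₀ 1 (Additive.ofMul (q : U)) = Additive.ofMul (cj 1 (q : U)) := rfl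
    have A2 : cj 1 (q : U) = (((MulAut.conjNormal (1 : H)) q : Q) : U) := rfl
    rw [A1, A2, map_one, MulAut.one_apply]
    exact (Module.End.one_apply _).symm
  have hm0 : ∀ g h, θ₀ (g * h) = θ₀ g * θ₀ h := fun g h => LinearMap.ext fun x => by
    obtain ⟨q, rfl⟩ := hex' x
    show Additive.ofMul (((MulAut.conjNormal (g * h)) q : Q) : U) =
      Additive.ofMul ((MulAut.conjNormal g (MulAut.conjNormal h q) : Q) : U)
    rw [map_mul]; rfl
  let θ : H →* Module.End (ZMod s) (Additive U) := ⟨⟨θ₀, h10⟩, hm0⟩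
  have hθker : θ.ker ≤ π.ker := by
    refine (hN θ.ker inferInstance).resolve_right fun htop => hQs fun q hq => ?_
    refine mem_scalars_of_commute ρ hirr fun h => ?_
    have hex : ∀ h : H, ∃ c : K, ρ h * ρ q = c • (ρ q * ρ h) := by
      intro h
      have h1 : θ h = 1 := (htop ▸ Subgroup.mem_top h : h ∈ θ.ker)
      have h2 : Additive.ofMul ((MulAut.conjNormal h ⟨q, hq⟩ : Q) : U) =
          Additive.ofMul ((⟨q, hq⟩ : Q) : U) :=
        (LinearMap.congr_fun h1 (Additive.ofMul ((⟨q, hq⟩ : Q) : U))).trans (Module.End.one_apply _)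
      have h3 := QuotientGroup.eq.1 (Additive.ofMul.injective h2)
      rw [Subgroup.mem_subgroupOf, Subgroup.coe_mul, Subgroup.coe_inv,
        MulAut.conjNormal_apply] at h3
      obtain ⟨c, hc⟩ := (mem_scalars ρ).1 ((scalars ρ).inv_mem h3)
      refine ⟨c, ?_⟩
      rw [← map_mul, ← map_mul,
        show h * q = q * (((h * q * h⁻¹)⁻¹ * q)⁻¹ * h) by group, map_mul, map_mul, hc,
        smul_mul_assoc, one_mul, mul_smul_comm, map_mul]
    choose c hc using hex
    have huniq : ∀ (a : H) (x y : K), x • ρ a = y • ρ a → x = y := fun a x y hxy => by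
      by_contra hne
      exact rho_ne_zero ρ a ((smul_eq_zero.1 (show (x - y) • ρ a = 0 by
        rw [sub_smul, hxy, sub_self])).resolve_left (sub_ne_zero.2 hne))
    let Φ : H →* K :=
      { toFun := c
        map_one' := huniq q _ _ (by
          have h1 := hc 1
          rw [map_one, one_mul, mul_one] at h1
          rw [one_smul]; exact h1.symm)
        map_mul' := fun g g' => huniq (q * (g * g')) _ _ (by
          rw [map_mul, ← hc, map_mul, mul_assoc, hc g', mul_smul_comm, ← mul_assoc, hc g,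
            smul_mul_assoc, smul_smul, mul_assoc, mul_comm (c g)]) }
    have hΦ : Φ.toHomUnits.ker = ⊤ := by
      rw [eq_top_iff, ← hperf]
      exact Abelianization.commutator_subset_ker _
    have h1 : c h = 1 := congrArg Units.val
      (show Φ.toHomUnits h = 1 from (hΦ ▸ Subgroup.mem_top h : h ∈ Φ.toHomUnits.ker))
    rw [hc h, h1, one_smul]
  set d := finrank (ZMod s) (Additive U)
  have hcardU : Nat.card U = s ^ d := by
    rw [← Nat.card_congr (Additive.ofMul (α := U)).symm, Module.natCard_eq_pow_finrank (K := ZMod s),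
      Nat.card_zmod]
  rw [hcardU] at hUle
  by_cases hdn : d < n
  · let b := Module.finBasis (ZMod s) (Additive U)
    let f : Module.End (ZMod s) (Additive U) →* Module.End (AlgebraicClosure (ZMod s))
        (Fin d → AlgebraicClosure (ZMod s)) :=
      (Matrix.toLinAlgEquiv' (R := AlgebraicClosure (ZMod s))
          (n := Fin d)).toAlgHom.toRingHom.toMonoidHom.comp
        ((algebraMap (ZMod s) (AlgebraicClosure (ZMod s))).mapMatrix.toMonoidHom.comp
          (LinearMap.toMatrixAlgEquiv b).toAlgHom.toRingHom.toMonoidHom)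
    have hf : Function.Injective f :=
      (Matrix.toLinAlgEquiv' (R := AlgebraicClosure (ZMod s)) (n := Fin d)).injective.comp
        ((Matrix.map_injective (algebraMap (ZMod s) (AlgebraicClosure (ZMod s))).injective).comp
          (LinearMap.toMatrixAlgEquiv b).injective)
    have hb : r - 1 - (if s ∣ r then 1 else 0) ≤ d := by
      refine IH d hdn s (AlgebraicClosure (ZMod s)) H π _ (f.comp θ) hπ (fun h hh => hθker ?_)
        (Module.finrank_fin_fun _)
      rw [MonoidHom.mem_ker] at hh ⊢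
      exact hf (by rw [map_one]; exact hh)
    have h2 : 2 ^ (r - 2) ≤ n * n := le_trans
      (le_trans (Nat.pow_le_pow_right (by norm_num)
        (show r - 2 ≤ d by split_ifs at hb <;> omega))
        (Nat.pow_le_pow_left (Fact.out : s.Prime).two_le _)) hUle
    have h3 := sq_lt_two_pow (show 5 ≤ r - 2 by omega)
    have : n * n ≤ (r - 2) * (r - 2) := Nat.mul_le_mul (by omega) (by omega)
    omega
  · have hsd : s ^ n ≤ n * n :=
      le_trans (Nat.pow_le_pow_right (Fact.out : s.Prime).pos (not_lt.1 hdn)) hUle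
    have hs2 : s = 2 := by
      by_contra h2
      have h3 : 3 ≤ s := by have := (Fact.out : s.Prime).two_le; omega
      have := Nat.pow_le_pow_left h3 n
      have := sq_lt_three_pow n
      omega
    subst hs2
    have hn4 : n ≤ 4 := by
      by_contra h
      have := sq_lt_two_pow (show 5 ≤ n by omega)
      omega
    have hd4 : d ≤ 4 := by
      by_contra h
      have h1 : 2 ^ 5 ≤ 2 ^ d := Nat.pow_le_pow_right (by norm_num) (by omega)
      have : n * n ≤ 4 * 4 := Nat.mul_le_mul hn4 hn4
      omega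
    haveI : Finite (Module.End (ZMod 2) (Additive U)) := Module.finite_of_finite (ZMod 2)
    have h1 : r.factorial ≤ 2 * Nat.card (Module.End (ZMod 2) (Additive U)) := by
      have hU := card_le_of_ker_le hπ (by omega) θ.toHomUnits (fun h hh => hθker (by
        rw [MonoidHom.mem_ker] at hh ⊢
        exact congrArg Units.val hh))
      exact hU.trans (Nat.mul_le_mul_left 2
        (Nat.card_le_card_of_injective _ Units.val_injective))
    rw [Module.natCard_eq_pow_finrank (K := ZMod 2), Nat.card_zmod, Module.finrank_linearMap] at h1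
    have h2 : 2 ^ (d * d) ≤ 2 ^ 16 :=
      Nat.pow_le_pow_right (by norm_num) (by have := Nat.mul_le_mul hd4 hd4; omega)
    have h3 : Nat.factorial 9 ≤ r.factorial := Nat.factorial_le hr
    have h9 : Nat.factorial 9 = 362880 := by decide
    have h4 : 2 * 2 ^ (d * d) ≤ 2 * 2 ^ 16 := Nat.mul_le_mul_left 2 h2
    simp only [d] at h4
    omega

theorem good (r : ℕ) (hr : 9 ≤ r) : ∀ n, Good r n := by
  classical
  intro n
  induction n using Nat.strong_induction_on with
  | _ n IH =>
  suffices h : ∀ (N : ℕ) (p : ℕ) [Fact p.Prime] (K : Type) [Field K] [IsAlgClosed K] [CharP K p]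
      (H : Type) [Group H] [Finite H] (π : H →* alternatingGroup (Fin r)) (V : Type)
      [AddCommGroup V] [Module K V] [FiniteDimensional K V] (ρ : H →* Module.End K V),
      Nat.card H = N → Function.Surjective π → ρ.ker ≤ π.ker → finrank K V = n →
      r - 1 - (if p ∣ r then 1 else 0) ≤ n by
    intro p _ K _ _ _ H _ _ π V _ _ _ ρ h1 h2 h3
    exact h _ p K H π V ρ rfl h1 h2 h3
  intro N
  induction N using Nat.strong_induction_on with
  | _ N IHN =>
  intro p _ K _ _ _ H _ _ π V _ _ _ ρ hN' hπ hker hn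
  haveI : IsSimpleGroup (alternatingGroup (Fin r)) :=
    alternatingGroup.isSimpleGroup (by rw [Nat.card_eq_fintype_card, Fintype.card_fin]; omega)
  -- a proper subgroup covering the quotient reduces the order
  by_cases hL : ∃ L : Subgroup H, L.map π = ⊤ ∧ L ≠ ⊤
  · obtain ⟨L, hL1, hL2⟩ := hL
    refine IHN (Nat.card L) ?_ p K L (π.comp L.subtype) V (ρ.comp L.subtype) rfl ?_ ?_ hn
    · rw [← hN']
      refine lt_of_le_of_ne (Subgroup.card_le_card_group L) fun e => hL2 ?_
      exact Subgroup.eq_top_of_card_eq L e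
    · rw [← MonoidHom.range_eq_top, MonoidHom.range_comp, Subgroup.range_subtype, hL1]
    · intro x hx
      exact hker (x := (x : H)) hx
  push Not at hL
  have hNk : ∀ M : Subgroup H, M.Normal → M ≤ π.ker ∨ M = ⊤ := by
    intro M hM
    rcases (hM.map π hπ).eq_bot_or_eq_top with h | h
    · exact Or.inl ((Subgroup.map_eq_bot_iff _).1 h)
    · exact Or.inr (hL M h)
  have hperf : commutator H = ⊤ := by
    refine (hNk _ inferInstance).resolve_left fun h => not_all_commute (r := r) (by omega) fun x y => ?_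
    obtain ⟨a, rfl⟩ := hπ x
    obtain ⟨b, rfl⟩ := hπ y
    have hmem : ⁅a, b⁆ ∈ π.ker := h (Subgroup.commutator_mem_commutator (Subgroup.mem_top a)
      (Subgroup.mem_top b))
    rw [MonoidHom.mem_ker, map_commutatorElement, commutatorElement_eq_one_iff_mul_comm] at hmem
    exact hmem
  haveI : Nontrivial V := by
    by_contra hnt
    rw [not_nontrivial_iff_subsingleton] at hnt
    have hall : ∀ h : H, π h = 1 := fun h => hker (LinearMap.ext fun v => Subsingleton.elim _ _)
    exact not_all_commute (r := r) (by omega) fun x y => by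
      obtain ⟨a, rfl⟩ := hπ x
      obtain ⟨b, rfl⟩ := hπ y
      rw [hall, hall]
  -- invariant subspaces reduce the dimension
  by_cases hW : ∃ W : Submodule K V, (∀ h, ∀ v ∈ W, ρ h v ∈ W) ∧ W ≠ ⊥ ∧ W ≠ ⊤
  · obtain ⟨W, hW, hWb, hWt⟩ := hW
    let ρW : H →* Module.End K W :=
      { toFun := fun h => (ρ h).restrict (hW h)
        map_one' := LinearMap.ext fun v => Subtype.ext (by simp)
        map_mul' := fun g h => LinearMap.ext fun v => Subtype.ext (by simp) }
    let ρQ : H →* Module.End K (V ⧸ W) :=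
      { toFun := fun h => W.mapQ W (ρ h) fun v hv => hW h v hv
        map_one' := Submodule.linearMap_qext _ (LinearMap.ext fun v => by simp)
        map_mul' := fun g h => Submodule.linearMap_qext _ (LinearMap.ext fun v => by simp) }
    have hlt1 : finrank K W < n := hn ▸ Submodule.finrank_lt hWt
    have hlt2 : finrank K (V ⧸ W) < n := by
      have h1 := W.finrank_quotient_add_finrank
      have h2 : 0 < finrank K W := Nat.pos_of_ne_zero (mt Submodule.finrank_eq_zero.1 hWb)
      omega
    rcases hNk ρW.ker inferInstance with h1 | h1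
    · exact (IH _ hlt1 p K H π W ρW hπ h1 rfl).trans hlt1.le
    rcases hNk ρQ.ker inferInstance with h2 | h2
    · exact (IH _ hlt2 p K H π (V ⧸ W) ρQ hπ h2 rfl).trans hlt2.le
    exfalso
    have hfix : ∀ h, ∀ v ∈ W, ρ h v = v := fun h v hv => congrArg Subtype.val
      (LinearMap.congr_fun (show ρW h = 1 from (h1 ▸ Subgroup.mem_top h : h ∈ ρW.ker)) ⟨v, hv⟩)
    have hquot : ∀ h v, ρ h v - v ∈ W := fun h v => (Submodule.Quotient.eq W).1
      (LinearMap.congr_fun (show ρQ h = 1 from (h2 ▸ Subgroup.mem_top h : h ∈ ρQ.ker))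
        (Submodule.Quotient.mk v))
    have hadd : ∀ g h v, ρ g (ρ h v) = ρ g v + ρ h v - v := fun g h v => by
      have := hfix g _ (hquot h v)
      rw [map_sub, sub_eq_iff_eq_add] at this
      rw [this]; abel
    have hcomm : commutator H ≤ ρ.ker := by
      rw [commutator_def, Subgroup.commutator_le]
      intro g _ h _
      have he : ρ (g * h) = ρ (h * g) := LinearMap.ext fun v => by
        rw [map_mul, map_mul, Module.End.mul_apply, Module.End.mul_apply, hadd, hadd]; abel
      rw [MonoidHom.mem_ker, commutatorElement_def,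
        show g * h * g⁻¹ * h⁻¹ = g * h * (h * g)⁻¹ by group, map_mul, he, ← map_mul, mul_inv_cancel,
        map_one]
    rw [hperf] at hcomm
    exact not_all_commute (r := r) (by omega) fun x y => by
      obtain ⟨a, rfl⟩ := hπ x
      obtain ⟨b, rfl⟩ := hπ y
      rw [show π a = 1 from hker (hcomm (Subgroup.mem_top a)), one_mul, mul_one]
  push Not at hW
  have hirr : ∀ W : Submodule K V, (∀ h, ∀ v ∈ W, ρ h v ∈ W) → W = ⊥ ∨ W = ⊤ := fun W h =>
    (eq_or_ne W ⊥).imp_right (hW W h)
  by_cases hsc : π.ker ≤ scalars ρ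
  swap
  · -- a normal subgroup of prime power order
    suffices hs : ∃ s : ℕ, s.Prime ∧ ∃ Q : Subgroup H, Q.Normal ∧ IsPGroup s Q ∧
        ¬ Q ≤ scalars ρ by
      obtain ⟨s, hs, Q, hQn, hQp, hQs⟩ := hs
      haveI := Fact.mk hs
      haveI := hQn
      have := pgroup_case hr IH hπ hNk hperf hn ρ hirr Q hQp hQs
      split_ifs <;> omega
    by_contra hall
    push Not at hall
    refine hsc ?_
    set N₀ : Subgroup π.ker := (scalars ρ).subgroupOf π.ker
    have hidx : N₀.index = 1 := by
      by_contra hne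
      obtain ⟨s, hs, hdvd⟩ := Nat.exists_prime_and_dvd hne
      haveI := Fact.mk hs
      let P : Sylow s π.ker := default
      haveI hnormal : ((P : Subgroup π.ker).map π.ker.subtype).Normal := by
        rw [← Subgroup.normalizer_eq_top_iff]
        refine hL _ ?_
        have h := congrArg (Subgroup.map π) (Sylow.normalizer_sup_eq_top P)
        rw [Subgroup.map_sup, (Subgroup.map_eq_bot_iff _).2 le_rfl, sup_bot_eq,
          Subgroup.map_top_of_surjective π hπ] at h
        exact h
      have hle := hall s hs _ hnormal (P.2.map _)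
      have hPN : (P : Subgroup π.ker) ≤ N₀ := fun x hx => hle ⟨x, hx, rfl⟩
      exact P.not_dvd_index (hdvd.trans (Subgroup.index_dvd_of_le hPN))
    exact Subgroup.subgroupOf_eq_top.1 (Subgroup.index_eq_one.1 hidx)
  -- the spin representation
  let G := H ⧸ ρ.ker
  let π' : G →* alternatingGroup (Fin r) := QuotientGroup.lift ρ.ker π hker
  let ρ' : G →* Module.End K V := QuotientGroup.lift ρ.ker ρ le_rfl
  have hfaith : ∀ g : G, ρ' g = 1 → g = 1 := fun g hg => by
    induction g using QuotientGroup.induction_on with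
    | H x => exact (QuotientGroup.eq_one_iff x).2 hg
  have hsurj : Function.Surjective π' := fun x => by
    obtain ⟨a, rfl⟩ := hπ x
    exact ⟨(a : G), rfl⟩
  have hscal : ∀ z ∈ π'.ker, ∃ c : K, ρ' z = c • 1 := fun z hz => by
    induction z using QuotientGroup.induction_on with
    | H x => exact hsc hz
  have hperfG : commutator G = ⊤ := by
    rw [eq_top_iff]
    intro g _
    induction g using QuotientGroup.induction_on with
    | H x =>
      have h1 : (x : G) ∈ (commutator H).map (QuotientGroup.mk' ρ.ker) :=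
        ⟨x, hperf ▸ Subgroup.mem_top x, rfl⟩
      rw [commutator_def, Subgroup.map_commutator] at h1
      exact Subgroup.commutator_mono le_top le_top h1
  have hcent : π'.ker ≤ Subgroup.center G := fun z hz => Subgroup.mem_center_iff.2 fun g => by
    obtain ⟨c, hc⟩ := hscal z hz
    refine mul_inv_eq_one.1 (hfaith _ ?_)
    have e : ρ' (g * z) = ρ' (z * g) := by
      rw [map_mul, map_mul, hc, mul_smul_comm, smul_mul_assoc, one_mul, mul_one]
    rw [map_mul, e, ← map_mul, mul_inv_cancel, map_one]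
  have hsmall : Nat.card π'.ker ≤ 2 := by
    obtain ⟨m, rfl⟩ : ∃ m, r = m + 1 := ⟨r - 1, by omega⟩
    exact CfsgLib.CoxRot.card_ker_le_two_alt (by omega) (by omega) (by omega) hcent
      (hperfG ▸ le_top) hsurj
  let C : Cover r G := ⟨π', hsurj, hperfG, inferInstance, hsmall⟩
  let R : Rep C K V := ⟨ρ', hfaith, hscal, fun W h => hirr W fun a v hv => h (a : G) v hv⟩
  exact hn ▸ core_bound R (Fact.out : p.Prime) hr

end CfsgLib.AltSection
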