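import Cfsg.Agent.AltSection.Lifts

/-!
A representation of an alternating group with an equivariant choice of lines on pairs is too large.
-/

set_option autoImplicit false

namespace CfsgLib.AltSection

open Equiv Equiv.Perm Module CfsgLib.BPres

variable {r : ℕ} {K V : Type*} [Field K] [AddCommGroup V] [Module K V]

theorem pair_inj {α : Type*} {a b : α} (h : a ≠ b) : Function.Injective ![a, b] := by
  intro s t hst
  fin_cases s <;> fin_cases t <;> simp [h, h.symm] at hst ⊢

theorem no_pair_lines [FiniteDimensional K V] {p : ℕ} [CharP K p] (hpr : ¬ p ∣ r) (hr : 8 ≤ r)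
    (P : alternatingGroup (Fin r) →* Module.End K V)
    (hirr : ∀ W : Submodule K V, (∀ σ, ∀ v ∈ W, P σ v ∈ W) → W = ⊥ ∨ W = ⊤)
    (h2 : 2 ≤ finrank K V) (hn : finrank K V + 2 ≤ r)
    (E : Fin r → Fin r → V) (hdiag : ∀ a, E a a = 0) (hne : ∀ a b, a ≠ b → E a b ≠ 0)
    (hequiv : ∀ σ : alternatingGroup (Fin r), ∀ a b,
      P σ (E a b) = E ((σ : Perm (Fin r)) a) ((σ : Perm (Fin r)) b))
    (htri : ∀ a b c, a ≠ b → a ≠ c → b ≠ c → E a b + E b c + E c a = 0)
    (hline : ∀ a b, a ≠ b → ∃ μ : K, E b a = μ • E a b) : False := by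
  classical
  set x₀ : Fin r := ⟨0, by omega⟩
  set x₁ : Fin r := ⟨1, by omega⟩
  have h01 : x₀ ≠ x₁ := by simp [x₀, x₁]
  obtain ⟨μ, hμ⟩ := hline x₀ x₁ h01
  have hsym : ∀ a b, a ≠ b → E b a = μ • E a b := by
    intro a b hab
    obtain ⟨g, hg⟩ := exists_even_map (α := Fin r) (by rw [Fintype.card_fin]; omega) ![x₀, x₁]
      ![a, b] (pair_inj h01) (pair_inj hab)
    have ga := hg 0; have gb := hg 1
    simp only [Matrix.cons_val] at ga gb
    have := congrArg (P g) hμ
    rwa [map_smul, hequiv, hequiv, ga, gb] at this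
  have hμ2 : μ * μ = 1 := by
    have h := hsym x₁ x₀ h01.symm
    rw [hμ, smul_smul] at h
    have h' : (μ * μ - 1) • E x₀ x₁ = 0 := by rw [sub_smul, one_smul, ← h, sub_self]
    exact sub_eq_zero.1 ((smul_eq_zero.1 h').resolve_right (hne _ _ h01))
  by_cases hm : μ = -1
  · subst hm
    have hanti : ∀ a b, E b a = -E a b := by
      intro a b
      rcases eq_or_ne a b with rfl | hab
      · rw [hdiag, neg_zero]
      · rw [hsym a b hab, neg_one_smul]
    set f : Fin r → V := fun x => E x₀ x with hf
    have hEf : ∀ a b, E a b = f b - f a := by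
      intro a b
      simp only [f]
      rcases eq_or_ne a b with rfl | hab
      · rw [hdiag, sub_self]
      rcases eq_or_ne x₀ a with rfl | ha
      · rw [hdiag, sub_zero]
      rcases eq_or_ne x₀ b with rfl | hb
      · rw [hdiag, zero_sub, hanti]
      have h := htri x₀ a b ha hb hab
      rw [hanti x₀ b] at h
      rw [eq_sub_iff_add_eq, ← sub_eq_zero]
      rw [← h]; abel
    let ψ : (Fin r → K) →ₗ[K] V := Fintype.linearCombination K f
    let Φ : (Fin r → K) →ₗ[K] V × K :=
      ψ.prod (∑ x, (LinearMap.proj x : (Fin r → K) →ₗ[K] K))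
    obtain ⟨c, hc0, hcΦ⟩ : ∃ c, c ≠ 0 ∧ Φ c = 0 := by
      by_contra h
      push Not at h
      have hi : Function.Injective Φ := by
        rw [← LinearMap.ker_eq_bot]
        refine (Submodule.eq_bot_iff _).2 fun x hx => ?_
        by_contra hx0
        exact h x hx0 hx
      have := LinearMap.finrank_le_finrank_of_injective hi
      rw [Module.finrank_fintype_fun_eq_card, Fintype.card_fin, Module.finrank_prod,
        Module.finrank_self] at this
      omega
    have hψ : ∀ v : Fin r → K, ψ v = ∑ x, v x • f x := fun v =>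
      Fintype.linearCombination_apply ..
    have hc1 : ∑ x, c x • f x = 0 := by rw [← hψ]; exact congrArg Prod.fst hcΦ
    have hc2 : ∑ x, c x = 0 := by simpa [Φ] using congrArg Prod.snd hcΦ
    have hshift : ∀ (v : Fin r → K) (σ : alternatingGroup (Fin r)), ∑ x, v x = 0 →
        ∑ x, v x • f x = 0 → ∑ x, v ((σ : Perm (Fin r)) x) • f x = 0 := by
      intro v σ hv1 hv2
      have h := congrArg (P σ⁻¹) hv2
      simp only [map_sum, map_smul, map_zero, f, hequiv, Subgroup.coe_inv] at h
      rw [Finset.sum_congr rfl (g := fun x => v x • f ((σ : Perm (Fin r))⁻¹ x) -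
        v x • f ((σ : Perm (Fin r))⁻¹ x₀)) (fun x _ => by rw [hEf, smul_sub]),
        Finset.sum_sub_distrib, ← Finset.sum_smul, hv1, zero_smul, sub_zero] at h
      refine Eq.trans ?_ h
      exact Finset.sum_equiv (σ : Perm (Fin r)) (fun x => by simp) (fun x _ => by simp)
    by_cases hconst : ∀ x, c x = c x₀
    · have hcx : c x₀ ≠ 0 := fun h => hc0 (funext fun x => by rw [hconst x, h]; rfl)
      rw [Finset.sum_congr rfl (fun x _ => hconst x), Finset.sum_const, Finset.card_univ,
        Fintype.card_fin, nsmul_eq_mul] at hc2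
      exact hpr ((CharP.cast_eq_zero_iff K p r).1 ((mul_eq_zero.1 hc2).resolve_right hcx))
    · push Not at hconst
      obtain ⟨x, hx⟩ := hconst
      set y := x₀
      have hxy : x ≠ y := fun h => hx (by rw [h])
      obtain ⟨t, ht, htc⟩ := Finset.exists_subset_card_eq
        (s := ({x, y} : Finset (Fin r))ᶜ) (n := 3) (by
          rw [Finset.card_compl, Fintype.card_fin, Finset.card_pair hxy]; omega)
      obtain ⟨z, u, w, hzu, hzw, huw, rfl⟩ := Finset.card_eq_three.1 htc
      have hz := ht (show z ∈ ({z, u, w} : Finset (Fin r)) by simp)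
      have hu := ht (show u ∈ ({z, u, w} : Finset (Fin r)) by simp)
      have hw := ht (show w ∈ ({z, u, w} : Finset (Fin r)) by simp)
      simp only [Finset.mem_compl, Finset.mem_insert, Finset.mem_singleton, not_or] at hz hu hw
      set d : Fin r → K := fun q => c q - c ((cyc x y z : Perm (Fin r)) q) with hd
      have hd1 : ∑ q, d q = 0 := by
        simp only [d, Finset.sum_sub_distrib, Equiv.sum_comp, hc2, sub_zero]
      have hd2 : ∑ q, d q • f q = 0 := by
        simp only [d, sub_smul, Finset.sum_sub_distrib, hc1, hshift c _ hc2 hc1, sub_zero]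
      have hdout : ∀ q, q ≠ x → q ≠ y → q ≠ z → d q = 0 := fun q h1 h2 h3 => by
        simp only [d, cyc_apply_of_ne hxy (Ne.symm hz.1) h1 h2 h3, sub_self]
      have hdx : d x ≠ 0 := by
        simp only [d, cyc_apply_a hxy (Ne.symm hz.1) (Ne.symm hz.2)]
        exact sub_ne_zero.2 hx
      have h := hshift d (cyc x u w) hd1 hd2
      have h' : ∑ q, (d q - d ((cyc x u w : Perm (Fin r)) q)) • f q = 0 := by
        simp only [sub_smul, Finset.sum_sub_distrib, hd2, h, sub_zero]
      have hxu : x ≠ u := Ne.symm hu.1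
      have hxw : x ≠ w := Ne.symm hw.1
      rw [← Finset.sum_subset (Finset.subset_univ ({x, w} : Finset (Fin r))) (fun q _ hq => by
        simp only [Finset.mem_insert, Finset.mem_singleton, not_or] at hq
        rcases eq_or_ne q u with rfl | hqu
        · rw [cyc_apply_b hxu hxw, hdout q hu.1 hu.2 (Ne.symm hzu), hdout w hw.1 hw.2 (Ne.symm hzw),
            sub_zero, zero_smul]
        · rw [cyc_apply_of_ne hxu hxw hq.1 hqu hq.2, sub_self, zero_smul]),
        Finset.sum_pair hxw, cyc_apply_a hxu hxw huw, cyc_apply_i hxu hxw huw,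
        hdout u hu.1 hu.2 (Ne.symm hzu), hdout w hw.1 hw.2 (Ne.symm hzw), sub_zero, zero_sub,
        neg_smul, ← sub_eq_add_neg, ← smul_sub, ← hEf] at h'
      exact hne w x hxw.symm ((smul_eq_zero.1 h').resolve_left hdx)
  · have hμ1 : μ = 1 := by
      have : (μ - 1) * (μ + 1) = 0 := by linear_combination hμ2
      rcases mul_eq_zero.1 this with h | h
      · exact sub_eq_zero.1 h
      · exact absurd (eq_neg_of_add_eq_zero_left h) hm
    have h2K : (2 : K) ≠ 0 := fun h => hm (by
      rw [hμ1, eq_neg_iff_add_eq_zero, one_add_one_eq_two, h])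
    have hs : ∀ a b, E b a = E a b := by
      intro a b
      rcases eq_or_ne a b with rfl | hab
      · rfl
      · rw [hsym a b hab, hμ1, one_smul]
    have hdisj : ∀ a b c d, a ≠ b → a ≠ c → a ≠ d → b ≠ c → b ≠ d → c ≠ d → E a b = E c d := by
      intro a b c d hab hac had hbc hbd hcd
      have t1 := htri a b c hab hac hbc
      have t2 := htri a b d hab had hbd
      have t3 := htri a c d hac had hcd
      have t4 := htri b c d hbc hbd hcd
      rw [hs a c] at t1
      rw [hs a d] at t2 t3
      rw [hs b d] at t4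
      have h0 : (2 : K) • (E a b - E c d) = 0 := by
        rw [smul_sub, two_smul, two_smul]
        linear_combination (norm := abel) t1 + t2 - t3 - t4
      exact sub_eq_zero.1 ((smul_eq_zero.1 h0).resolve_left h2K)
    have hall : ∀ a b a' b', a ≠ b → a' ≠ b' → E a b = E a' b' := by
      intro a b a' b' hab hab'
      obtain ⟨t, ht, htc⟩ := Finset.exists_subset_card_eq
        (s := ({a, b, a', b'} : Finset (Fin r))ᶜ) (n := 2) (by
          have := Finset.card_le_four (a := a) (b := b) (c := a') (d := b')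
          rw [Finset.card_compl, Fintype.card_fin]; omega)
      obtain ⟨u, v, huv, rfl⟩ := Finset.card_eq_two.1 htc
      have hu := ht (show u ∈ ({u, v} : Finset (Fin r)) by simp)
      have hv := ht (show v ∈ ({u, v} : Finset (Fin r)) by simp)
      simp only [Finset.mem_compl, Finset.mem_insert, Finset.mem_singleton, not_or] at hu hv
      rw [hdisj a b u v hab (Ne.symm hu.1) (Ne.symm hv.1) (Ne.symm hu.2.1) (Ne.symm hv.2.1) huv,
        hdisj a' b' u v hab' (Ne.symm hu.2.2.1) (Ne.symm hv.2.2.1) (Ne.symm hu.2.2.2)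
          (Ne.symm hv.2.2.2) huv]
    rcases hirr (Submodule.span K {E x₀ x₁}) (fun σ v hv => by
        obtain ⟨c, rfl⟩ := Submodule.mem_span_singleton.1 hv
        rw [map_smul, hequiv, hall _ _ x₀ x₁ ((σ : Perm (Fin r)).injective.ne h01) h01]
        exact Submodule.smul_mem _ _ (Submodule.mem_span_singleton_self _)) with h | h
    · exact hne _ _ h01 (Submodule.span_singleton_eq_bot.1 h)
    · have := finrank_span_singleton (K := K) (hne _ _ h01)
      rw [h, finrank_top] at this
      omega

end CfsgLib.AltSection
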