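import Mathlib

/-!
Weights of commuting operators of finite order.
-/

set_option autoImplicit false

namespace CfsgLib.AltSection

open Module

variable {K V : Type*} [Field K] [AddCommGroup V] [Module K V] {k b : ℕ}

/-- `w` is a weight of the operators `f`. -/
def IsWeight (f : Fin k → Module.End K V) (ζ : K) (w : Fin k → ZMod b) : Prop :=
  ∃ v : V, v ≠ 0 ∧ ∀ i, f i v = ζ ^ (w i).val • v

section Common

variable [IsAlgClosed K] [FiniteDimensional K V]

/-- Commuting operators have a common eigenvector in each common invariant subspace. -/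
theorem exists_common_eigenvec {ι : Type*} (s : Finset ι) (f : ι → Module.End K V)
    (hc : ∀ i j, f i * f j = f j * f i) (W : Submodule K V) (hW : W ≠ ⊥)
    (hinv : ∀ i ∈ s, ∀ x ∈ W, f i x ∈ W) :
    ∃ v ∈ W, v ≠ 0 ∧ ∀ i ∈ s, ∃ μ : K, f i v = μ • v := by
  classical
  induction s using Finset.induction_on generalizing W with
  | empty =>
    obtain ⟨v, hv, h0⟩ := W.ne_bot_iff.1 hW
    exact ⟨v, hv, h0, by simp⟩
  | @insert a s _ ih =>
    haveI : Nontrivial W := Submodule.nontrivial_iff_ne_bot.2 hW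
    obtain ⟨μ, hμ⟩ := Module.End.exists_eigenvalue
      ((f a).restrict (hinv a (Finset.mem_insert_self a s)))
    obtain ⟨v, hv⟩ := hμ.exists_hasEigenvector
    set W' : Submodule K V := W ⊓ LinearMap.ker (f a - μ • (1 : Module.End K V)) with hW'
    have hmem : ∀ x, x ∈ W' ↔ x ∈ W ∧ f a x = μ • x := fun x => by
      simp [hW', sub_eq_zero]
    have hne : W' ≠ ⊥ := by
      refine W'.ne_bot_iff.2 ⟨(v : V), (hmem _).2 ⟨v.2, ?_⟩, fun e => hv.2 (Subtype.ext e)⟩
      have := congrArg Subtype.val hv.apply_eq_smul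
      simpa using this
    have hinv' : ∀ i ∈ s, ∀ x ∈ W', f i x ∈ W' := fun i hi x hx => by
      rw [hmem] at hx ⊢
      refine ⟨hinv i (Finset.mem_insert_of_mem hi) x hx.1, ?_⟩
      rw [← Module.End.mul_apply, hc a i, Module.End.mul_apply, hx.2, map_smul]
    obtain ⟨u, hu, hu0, hev⟩ := ih W' hne hinv'
    refine ⟨u, ((hmem u).1 hu).1, hu0, fun i hi => ?_⟩
    rcases Finset.mem_insert.1 hi with rfl | hi
    · exact ⟨μ, ((hmem u).1 hu).2⟩
    · exact hev i hi

end Common

variable [hb : Fact b.Prime] {ζ : K}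

theorem pow_val_inj (hζ : IsPrimitiveRoot ζ b) {x y : ZMod b} (h : ζ ^ x.val = ζ ^ y.val) : x = y :=
  ZMod.val_injective b (hζ.pow_inj (ZMod.val_lt x) (ZMod.val_lt y) h)

theorem pow_val_mul (hζ : IsPrimitiveRoot ζ b) (x y : ZMod b) :
    ζ ^ (x * y).val = ζ ^ (x.val * y.val) := by
  rw [ZMod.val_mul]
  conv_rhs => rw [pow_eq_pow_mod (x.val * y.val) hζ.pow_eq_one]

/-- Eigenvectors of distinct weights are independent. -/
theorem weights_independent (hζ : IsPrimitiveRoot ζ b) (f : Fin k → Module.End K V)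
    (v : (Fin k → ZMod b) → V) (s : Finset (Fin k → ZMod b)) :
    (∀ w ∈ s, v w ≠ 0 ∧ ∀ i, f i (v w) = ζ ^ (w i).val • v w) →
    ∀ c : (Fin k → ZMod b) → K, ∑ w ∈ s, c w • v w = 0 → ∀ w ∈ s, c w = 0 := by
  classical
  induction s using Finset.induction_on with
  | empty => simp
  | @insert a s has ih =>
    intro hv c hc
    have ih' := ih fun w hw => hv w (Finset.mem_insert_of_mem hw)
    obtain ⟨ha0, hav⟩ := hv a (Finset.mem_insert_self a s)
    have key : ∀ i, ∀ w ∈ s, c w * (ζ ^ (w i).val - ζ ^ (a i).val) = 0 := by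
      intro i
      refine ih' _ ?_
      have h1 := congrArg (fun x => f i x - ζ ^ (a i).val • x) hc
      simp only [map_zero, smul_zero, sub_zero, map_sum, Finset.smul_sum, map_smul,
        ← Finset.sum_sub_distrib] at h1
      rw [Finset.sum_insert has, hav, smul_comm, sub_self, zero_add] at h1
      refine (Finset.sum_congr rfl fun w hw => ?_).trans h1
      rw [(hv w (Finset.mem_insert_of_mem hw)).2 i, mul_sub, sub_smul, smul_smul, smul_smul]
      rw [mul_comm (ζ ^ (a i).val)]
    have hs0 : ∀ w ∈ s, c w = 0 := by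
      intro w hw
      by_contra h0
      have hwa : w ≠ a := fun e => has (e ▸ hw)
      refine hwa (funext fun i => pow_val_inj hζ ?_)
      exact sub_eq_zero.1 ((mul_eq_zero.1 (key i w hw)).resolve_left h0)
    intro w hw
    rcases Finset.mem_insert.1 hw with rfl | hw
    · rw [Finset.sum_insert has, Finset.sum_eq_zero (fun x hx => by rw [hs0 x hx, zero_smul]),
        add_zero] at hc
      exact (smul_eq_zero.1 hc).resolve_right ha0
    · exact hs0 w hw

/-- There are at most `dim V` weights. -/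
theorem card_weights_le [FiniteDimensional K V] (hζ : IsPrimitiveRoot ζ b)
    (f : Fin k → Module.End K V) (s : Finset (Fin k → ZMod b))
    (hs : ∀ w ∈ s, IsWeight f ζ w) : s.card ≤ finrank K V := by
  classical
  let v : (Fin k → ZMod b) → V := fun w => if h : IsWeight f ζ w then h.choose else 0
  have hv : ∀ w ∈ s, v w ≠ 0 ∧ ∀ i, f i (v w) = ζ ^ (w i).val • v w := fun w hw => by
    simp only [v, dif_pos (hs w hw)]
    exact (hs w hw).choose_spec
  have hli : LinearIndependent K (fun w : s => v w) := by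
    rw [Fintype.linearIndependent_iff]
    intro g hg w
    let c : (Fin k → ZMod b) → K := fun x => if h : x ∈ s then g ⟨x, h⟩ else 0
    have hc : ∑ x ∈ s, c x • v x = 0 := by
      rw [← Finset.sum_coe_sort s]
      simpa [c] using hg
    simpa [c] using weights_independent hζ f v s hv c hc w w.2
  simpa using hli.fintype_card_le_finrank

section Exists

variable [IsAlgClosed K] [FiniteDimensional K V]

theorem root_eq_pow (hζ : IsPrimitiveRoot ζ b) {μ : K} (hμ : μ ^ b = 1) :
    ∃ a : ZMod b, μ = ζ ^ a.val := by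
  haveI : NeZero b := ⟨hb.out.ne_zero⟩
  obtain ⟨i, hi, rfl⟩ := hζ.eq_pow_of_pow_eq_one hμ
  exact ⟨(i : ZMod b), by rw [ZMod.val_natCast_of_lt hi]⟩

/-- A nonzero common invariant subspace carries a weight. -/
theorem exists_weight_mem (hζ : IsPrimitiveRoot ζ b) (f : Fin k → Module.End K V)
    (hc : ∀ i j, f i * f j = f j * f i) (hp : ∀ i, f i ^ b = 1) (W : Submodule K V) (hW : W ≠ ⊥)
    (hinv : ∀ i, ∀ x ∈ W, f i x ∈ W) :
    ∃ w : Fin k → ZMod b, ∃ v ∈ W, v ≠ 0 ∧ ∀ i, f i v = ζ ^ (w i).val • v := by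
  obtain ⟨v, hv, hv0, hev⟩ := exists_common_eigenvec Finset.univ f hc W hW fun i _ => hinv i
  choose μ hμ using fun i => hev i (Finset.mem_univ i)
  have hpow : ∀ i, μ i ^ b = 1 := fun i => by
    have h1 : ∀ m : ℕ, (f i ^ m) v = μ i ^ m • v := fun m => by
      induction m with
      | zero => simp
      | succ m ih =>
        rw [pow_succ', Module.End.mul_apply, ih, map_smul, hμ, smul_smul, pow_succ]
    have h2 := h1 b
    rw [hp i, Module.End.one_apply] at h2
    have h3 : (μ i ^ b - 1) • v = 0 := by rw [sub_smul, one_smul, ← h2, sub_self]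
    exact sub_eq_zero.1 ((smul_eq_zero.1 h3).resolve_right hv0)
  choose w hw using fun i => root_eq_pow hζ (hpow i)
  exact ⟨w, v, hv, hv0, fun i => by rw [hμ i, hw i]⟩

/-- The image of `f - 1` has no fixed vector. -/
theorem eq_zero_of_mem_range_sub_one (hbK : (b : K) ≠ 0) {f : Module.End K V} (hp : f ^ b = 1)
    {v : V} (hv : f v = v) (hr : v ∈ LinearMap.range (f - 1)) : v = 0 := by
  obtain ⟨u, rfl⟩ := hr
  have h1 : (∑ l ∈ Finset.range b, f ^ l) ((f - 1) u) = 0 := by
    rw [← Module.End.mul_apply, geom_sum_mul, hp, sub_self, LinearMap.zero_apply]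
  have h2 : ∀ l : ℕ, (f ^ l) ((f - 1) u) = (f - 1) u := fun l => by
    induction l with
    | zero => simp
    | succ l ih => rw [pow_succ', Module.End.mul_apply, ih, hv]
  rw [LinearMap.sum_apply, Finset.sum_congr rfl (fun l _ => h2 l), Finset.sum_const,
    Finset.card_range, ← Nat.cast_smul_eq_nsmul K] at h1
  exact (smul_eq_zero.1 h1).resolve_left hbK

/-- If a product `(f i - 1) (f j - 1)` is nonzero, some weight is nonzero at both places. -/
theorem exists_weight_both (hζ : IsPrimitiveRoot ζ b) (hbK : (b : K) ≠ 0)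
    (f : Fin k → Module.End K V) (hc : ∀ i j, f i * f j = f j * f i) (hp : ∀ i, f i ^ b = 1)
    {i j : Fin k} (hne : (f i - 1) * (f j - 1) ≠ 0) :
    ∃ w : Fin k → ZMod b, IsWeight f ζ w ∧ w i ≠ 0 ∧ w j ≠ 0 := by
  set g := (f i - 1) * (f j - 1) with hg
  have hcg : ∀ l, f l * g = g * f l := fun l => by
    have h1 : Commute (f l) (f i - 1) := Commute.sub_right (hc l i) (Commute.one_right _)
    have h2 : Commute (f l) (f j - 1) := Commute.sub_right (hc l j) (Commute.one_right _)
    exact h1.mul_right h2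
  obtain ⟨w, v, hv, hv0, hev⟩ := exists_weight_mem hζ f hc hp (LinearMap.range g)
    (fun e => hne (LinearMap.range_eq_bot.1 e)) (fun l x hx => by
      obtain ⟨u, rfl⟩ := hx
      exact ⟨f l u, by rw [← Module.End.mul_apply, ← hcg l, Module.End.mul_apply]⟩)
  have hfix : ∀ l, w l = 0 → f l v = v := fun l hl => by rw [hev l, hl]; simp
  obtain ⟨u, rfl⟩ := hv
  refine ⟨w, ⟨g u, hv0, hev⟩, fun h => hv0 ?_, fun h => hv0 ?_⟩
  · exact eq_zero_of_mem_range_sub_one hbK (hp i) (hfix i h) ⟨(f j - 1) u, rfl⟩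
  · have e : g u = (f j - 1) ((f i - 1) u) := by
      rw [hg, ← Module.End.mul_apply (f j - 1)]
      have : Commute (f i - 1) (f j - 1) :=
        (Commute.sub_right (hc i j) (Commute.one_right _)).sub_left (Commute.one_left _)
      rw [this.eq]
    exact eq_zero_of_mem_range_sub_one hbK (hp j) (hfix j h) ⟨(f i - 1) u, e.symm⟩

end Exists

end CfsgLib.AltSection
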