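import Cfsg.Agent.AltSection.Lifts
import Cfsg.Agent.AltSection.Weights
import Cfsg.Agent.AltSection.BlockPerms

/-!
Counting weights of block cycles in a spin representation of an alternating group.
-/

set_option autoImplicit false

namespace CfsgLib.AltSection

open Equiv Equiv.Perm Module

variable {r : ℕ} {H : Type*} [Group H]

/-- A faithful irreducible representation in which the kernel of the covering acts by scalars. -/
structure Rep (C : Cover r H) (K V : Type*) [Field K] [AddCommGroup V] [Module K V] where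
  /-- The representation. -/
  ρ : H →* Module.End K V
  faithful : ∀ h, ρ h = 1 → h = 1
  scalar : ∀ z ∈ C.π.ker, ∃ c : K, ρ z = c • 1
  irred : ∀ W : Submodule K V, (∀ h, ∀ v ∈ W, ρ h v ∈ W) → W = ⊥ ∨ W = ⊤

/-- The support of a weight. -/
def supp {k b : ℕ} [NeZero b] (w : Fin k → ZMod b) : Finset (Fin k) :=
  Finset.univ.filter fun i => w i ≠ 0

theorem mem_supp {k b : ℕ} [NeZero b] {w : Fin k → ZMod b} {i : Fin k} :
    i ∈ supp w ↔ w i ≠ 0 := by simp [supp]

variable {K V : Type*} [Field K] [AddCommGroup V] [Module K V] {C : Cover r H}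
  {k b : ℕ} [hb' : Fact b.Prime]

/-- The operators of the lifts of the block cycles. -/
noncomputable def blockOp (R : Rep C K V) (e : Fin k × ZMod b ↪ Fin r) (hb : Odd b) (i : Fin k) :
    Module.End K V :=
  R.ρ (C.lift (blockCyc e hb i))

variable (R : Rep C K V) (e : Fin k × ZMod b ↪ Fin r) (hb : Odd b)

theorem blockOp_comm (i j : Fin k) :
    blockOp R e hb i * blockOp R e hb j = blockOp R e hb j * blockOp R e hb i := by
  have hc : Commute (C.lift (blockCyc e hb i)) (C.lift (blockCyc e hb j)) :=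
    C.lift_commute (odd_orderOf_blockCyc e hb j) (by
      rw [C.π_lift (odd_orderOf_blockCyc e hb i)]; exact blockCyc_comm e hb i j)
  exact (hc.map R.ρ).eq

theorem blockOp_pow (i : Fin k) : blockOp R e hb i ^ b = 1 := by
  obtain ⟨c, hc⟩ := orderOf_dvd_of_pow_eq_one (blockCyc_pow e hb i)
  rw [blockOp, ← map_pow, (congrArg (C.lift (blockCyc e hb i) ^ ·) hc : C.lift _ ^ b = _), pow_mul,
    C.lift_pow_orderOf (odd_orderOf_blockCyc e hb i), one_pow, map_one]

variable {ζ : K}

theorem isWeight_transform (hζ : IsPrimitiveRoot ζ b) {π : Perm (Fin k)} {a : Fin k → (ZMod b)ˣ}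
    (hs : sign π * ∏ i, χ (a i) = 1) {w w' : Fin k → ZMod b}
    (hw : IsWeight (blockOp R e hb) ζ w) (hw' : ∀ i, (a i : ZMod b) * w' (π i) = w i) :
    IsWeight (blockOp R e hb) ζ w' := by
  obtain ⟨g, hg⟩ := blockCyc_conj e hb hs
  obtain ⟨h, rfl⟩ := C.surj g
  obtain ⟨v, hv0, hv⟩ := hw
  have hinj : Function.Injective (R.ρ h) := fun x y hxy => by
    have := congrArg (R.ρ h⁻¹) hxy
    rwa [← Module.End.mul_apply, ← Module.End.mul_apply, ← map_mul, inv_mul_cancel, map_one,
      Module.End.one_apply, Module.End.one_apply] at this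
  refine ⟨R.ρ h v, fun e0 => hv0 (hinj (e0.trans (map_zero _).symm)), fun j => ?_⟩
  obtain ⟨i, rfl⟩ := π.surjective j
  set m := (a i : ZMod b).val
  have hmc : h * C.lift (blockCyc e hb i) = C.lift (blockCyc e hb (π i)) ^ m * h := by
    rw [← mul_inv_eq_iff_eq_mul, C.lift_conj (odd_orderOf_blockCyc e hb i), hg,
      C.lift_pow (odd_orderOf_blockCyc e hb (π i))]
  have hm : (blockOp R e hb (π i) ^ m) (R.ρ h v) = ζ ^ (w i).val • R.ρ h v := by
    rw [blockOp, ← map_pow, ← Module.End.mul_apply, ← map_mul, ← hmc, map_mul,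
      Module.End.mul_apply, ← blockOp, hv, map_smul]
  set m' := ((a i)⁻¹ : (ZMod b)ˣ).val.val
  have hmm : m * m' ≡ 1 [MOD b] := by
    rw [← ZMod.natCast_eq_natCast_iff]
    rw [Nat.cast_mul, ZMod.natCast_zmod_val, ZMod.natCast_zmod_val, Units.mul_inv, Nat.cast_one]
  have hpow : blockOp R e hb (π i) = (blockOp R e hb (π i) ^ m) ^ m' := by
    rw [← pow_mul]
    conv_lhs => rw [← pow_one (blockOp R e hb (π i))]
    exact pow_eq_pow_iff_modEq' hmm (blockOp_pow R e hb (π i))
  have hiter : ∀ l : ℕ, ((blockOp R e hb (π i) ^ m) ^ l) (R.ρ h v) =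
      (ζ ^ (w i).val) ^ l • R.ρ h v := fun l => by
    induction l with
    | zero => simp
    | succ l ih =>
      rw [pow_succ', Module.End.mul_apply, ih, map_smul, hm, smul_smul, pow_succ]
  rw [hpow, hiter, ← pow_mul, ← pow_val_mul hζ]
  congr 3
  rw [← hw' i, mul_right_comm, Units.mul_inv, one_mul]
where
  pow_eq_pow_iff_modEq' {M : Type _} [Monoid M] {x : M} {m n b : ℕ} (h : m * n ≡ 1 [MOD b])
      (hx : x ^ b = 1) : x ^ 1 = x ^ (m * n) := by
    rw [pow_eq_pow_mod 1 hx, pow_eq_pow_mod (m * n) hx, h]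

open Classical in
/-- A unit agreeing with a nonzero residue. -/
noncomputable def toUnit (x : ZMod b) : (ZMod b)ˣ := if h : x = 0 then 1 else Units.mk0 x h

theorem coe_toUnit {x : ZMod b} (h : x ≠ 0) : (toUnit x : ZMod b) = x := by
  simp [toUnit, h]

theorem toUnit_zero : toUnit (0 : ZMod b) = 1 := by simp [toUnit]

/-- All weights with the same number of nonzero entries occur together. -/
theorem isWeight_of_supp_card (hζ : IsPrimitiveRoot ζ b) (hk : 2 ≤ k)
    (hχ : ∃ u : (ZMod b)ˣ, χ u = -1) {w w' : Fin k → ZMod b}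
    (hw : IsWeight (blockOp R e hb) ζ w) (hcard : (supp w).card = (supp w').card) :
    IsWeight (blockOp R e hb) ζ w' := by
  classical
  obtain ⟨u, hu⟩ := hχ
  let π₀ : Perm (Fin k) := (Finset.equivOfCardEq hcard).extendSubtype
  have hπ₀ : ∀ i, w i ≠ 0 ↔ w' (π₀ i) ≠ 0 := fun i => by
    rw [← mem_supp, ← mem_supp]
    constructor
    · intro hi; exact Equiv.extendSubtype_mem _ i hi
    · intro hi; by_contra h; exact Equiv.extendSubtype_not_mem _ i h hi
  let a : Perm (Fin k) → Fin k → (ZMod b)ˣ := fun π i => toUnit (w i) * (toUnit (w' (π i)))⁻¹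
  have hprod : ∀ π, ∏ i, χ (a π i) = (∏ i, χ (toUnit (w i))) * (∏ i, χ (toUnit (w' i)))⁻¹ := by
    intro π
    simp only [a, map_mul, map_inv, Finset.prod_mul_distrib, Finset.prod_inv_distrib]
    rw [Equiv.prod_comp π fun i => χ (toUnit (w' i))]
  have hrel : ∀ π : Perm (Fin k), (∀ i, w i ≠ 0 ↔ w' (π i) ≠ 0) →
      ∀ i, (a π i : ZMod b) * w' (π i) = w i := by
    intro π hπ i
    by_cases h : w i = 0
    · rw [h, not_ne_iff.1 ((hπ i).not.1 (not_ne_iff.2 h)), mul_zero]
    · simp only [a, Units.val_mul, mul_assoc]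
      rw [Units.inv_mul_eq_iff_eq_mul (toUnit (w' (π i))) |>.2
        (show w' (π i) = (toUnit (w' (π i)) : ZMod b) * 1 by rw [mul_one, coe_toUnit ((hπ i).1 h)]),
        mul_one, coe_toUnit h]
  rcases Int.units_eq_one_or (sign π₀ * ∏ i, χ (a π₀ i)) with hs | hs
  · exact isWeight_transform R e hb hζ hs hw (hrel π₀ hπ₀)
  · by_cases hi : ∃ i, w i = 0
    · obtain ⟨i₀, hi₀⟩ := hi
      refine isWeight_transform R e hb hζ (π := π₀) (a := Function.update (a π₀) i₀ (a π₀ i₀ * u)) ?_ hw ?_
      · have : ∀ i, χ (Function.update (a π₀) i₀ (a π₀ i₀ * u) i) =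
            χ (a π₀ i) * Function.update (1 : Fin k → ℤˣ) i₀ (-1) i := by
          intro i
          by_cases h : i = i₀
          · subst h; simp [hu]
          · simp [h]
        simp only [this, Finset.prod_mul_distrib, Finset.prod_update_of_mem (Finset.mem_univ i₀),
          Pi.one_apply, Finset.prod_const_one, mul_one]
        rw [← mul_assoc, hs]; rfl
      · intro i
        by_cases h : i = i₀
        · subst h
          rw [hi₀, not_ne_iff.1 ((hπ₀ i).not.1 (not_ne_iff.2 hi₀)), mul_zero]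
        · rw [Function.update_of_ne h]; exact hrel π₀ hπ₀ i
    · push Not at hi
      have hall : ∀ j, w' j ≠ 0 := fun j => by
        obtain ⟨i, rfl⟩ := π₀.surjective j
        exact (hπ₀ i).1 (hi i)
      refine isWeight_transform R e hb hζ (π := π₀ * swap ⟨0, by omega⟩ ⟨1, by omega⟩) ?_ hw
        (hrel _ fun i => iff_of_true (hi i) (hall _))
      rw [hprod, map_mul, sign_swap (by simp), mul_neg, mul_one, neg_mul, ← hprod π₀, hs]
      rfl

/-- The weights with `j` nonzero entries. -/
theorem choose_mul_le_finrank [FiniteDimensional K V] (hζ : IsPrimitiveRoot ζ b) (hk : 2 ≤ k)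
    (hχ : ∃ u : (ZMod b)ˣ, χ u = -1) {w : Fin k → ZMod b}
    (hw : IsWeight (blockOp R e hb) ζ w) :
    k.choose (supp w).card * (b - 1) ^ (supp w).card ≤ finrank K V := by
  classical
  set j := (supp w).card
  set s := (Finset.univ : Finset (Fin k → ZMod b)).filter fun w' => (supp w').card = j
  refine le_trans ?_ (card_weights_le hζ (blockOp R e hb) s fun w' hw' =>
    isWeight_of_supp_card R e hb hζ hk hχ hw (Finset.mem_filter.1 hw').2.symm)
  let T := Σ S : {S : Finset (Fin k) // S.card = j}, (S.1 → (ZMod b)ˣ)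
  let f : T → (Fin k → ZMod b) := fun x i => if h : i ∈ x.1.1 then (x.2 ⟨i, h⟩ : ZMod b) else 0
  have hsupp : ∀ x : T, supp (f x) = x.1.1 := fun x => by
    ext i
    rw [mem_supp]
    by_cases h : i ∈ x.1.1 <;> simp [f, h]
  have hf : Function.Injective f := by
    rintro ⟨⟨S, hS⟩, g⟩ ⟨⟨S', hS'⟩, g'⟩ hfg
    obtain rfl : S = S' := (hsupp ⟨⟨S, hS⟩, g⟩).symm.trans (hfg ▸ hsupp ⟨⟨S', hS'⟩, g'⟩)
    have : g = g' := funext fun ⟨i, hi⟩ => by
      have := congrFun hfg i
      simpa [f, hi, Units.val_inj] using this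
    subst this; rfl
  calc k.choose j * (b - 1) ^ j
      = Fintype.card T := by
        rw [Fintype.card_sigma]
        rw [Finset.sum_congr rfl (g := fun _ => (b - 1) ^ j) fun S _ => by
          rw [Fintype.card_fun, ZMod.card_units, Fintype.card_coe, S.2]]
        rw [Finset.sum_const, Finset.card_univ, Fintype.card_finset_len, Fintype.card_fin,
          smul_eq_mul]
    _ = ((Finset.univ : Finset T).image f).card := by
        rw [Finset.card_image_of_injective _ hf, Finset.card_univ]
    _ ≤ s.card := Finset.card_le_card fun w' hw' => by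
        obtain ⟨x, -, rfl⟩ := Finset.mem_image.1 hw'
        exact Finset.mem_filter.2 ⟨Finset.mem_univ _, by rw [hsupp]; exact x.1.2⟩

end CfsgLib.AltSection
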